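import Cfsg.Agent.H38.CyclicPairs.Sums
import Cfsg.Agent.H28.IndexThree

/-!
# The principal block sums for cyclic Sylow subgroups
-/

set_option autoImplicit false
set_option linter.unusedSectionVars false

open scoped ComplexConjugate Classical

namespace Cfsg.Agent.H38.CP

open H28.Ab

variable {G : Type*} [Group G] [Fintype G] {p : ℕ} [Fact p.Prime] {P : Sylow p G} {m : ℕ}
  {M : Ideal Cfsg.AlgInt}

/-- The `p`-part of an element of `P`, as an element of the group. -/
theorem isPPart_of_mem {y : G} (hy : y ∈ (P : Subgroup G)) : Cfsg.IsPPart p y y :=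
  isPPart_self (⟨y, hy⟩ : ↥(P : Subgroup G))

/-- Orthogonality of sections in the principal block. -/
theorem block_sum_mul (h : Ctx P m) (hM : Cfsg.IsPModular p M) (u v : ↥(P : Subgroup G))
    (hu : u ≠ 1) :
    ∑ χ ∈ Finset.univ.filter (· ∈ Cfsg.principalBlock M G), χ.1 (u : G) * χ.1 (v : G) =
      if IsConj (u : G) (v : G)⁻¹ then (Nat.card P : ℂ) else 0 := by
  haveI := hM.2.1
  have hv : ∀ χ : Cfsg.IrrCharacter G, χ.1 (v : G) = conj (χ.1 (v : G)⁻¹) := fun χ => by
    rw [H26.irr_inv, Complex.conj_conj]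
  split_ifs with hc
  · rw [← h.block_norm hM hu]
    exact Finset.sum_congr rfl fun χ _ => by rw [hv, ← H26.irr_eq_of_isConj χ hc]
  · simp only [hv]
    exact H40.sum_block_mul_conj_eq_zero_of_section hM (H41.isPBlock_principalBlock (G := G) (M := M))
      (isPPart_self u) (isPPart_of_mem (inv_mem v.2)) hc

section Exc

variable {r : ℕ}

/-- The degree of an exceptional character. -/
theorem Exc.deg_mu (E : Exc M P m r) (i j : Fin r) : (E.mu i).1 1 = (E.mu j).1 1 :=
  E.reg i j 1 (by simpa using (Fact.out : p.Prime).ne_one)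

/-- The coefficient of a constant member. -/
theorem Exc.reg_coeff_X (E : Exc M P m r) (h : Ctx P m) (hM : Cfsg.IsPModular p M)
    {χ : Cfsg.IrrCharacter G} (hχ : χ ∈ E.X) :
    Cfsg.classInner (reg p) χ.1 = (if χ = H26.oneIrr G then 1 else 0) -
      ((Nat.card P : ℂ) - 1) * (E.a χ : ℂ) / ((m : ℂ) * Nat.card P) := by
  rw [classInner_reg_mem h hM (E.mem_block_of_mem hχ), Finset.sum_congr rfl fun y hy => by
      rw [E.val_X χ hχ y (Finset.mem_erase.1 hy).1, map_intCast],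
    Finset.sum_const, Finset.card_erase_of_mem (Finset.mem_univ _), Finset.card_univ,
    ← Nat.card_eq_fintype_card, nsmul_eq_mul, Nat.cast_sub Nat.card_pos, Nat.cast_one]
  ring

/-- The coefficient of an exceptional member. -/
theorem Exc.reg_coeff_mu (E : Exc M P m r) (h : Ctx P m) (hM : Cfsg.IsPModular p M) (i : Fin r) :
    Cfsg.classInner (reg p) (E.mu i).1 = ((E.e : ℂ) - r * E.d) / (Nat.card P : ℂ) := by
  rw [classInner_reg_mem h hM (E.mu_mem_block i), if_neg fun e => E.notMem i (by rw [e]; exact E.one_mem),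
    Finset.sum_congr rfl fun y hy => by
      rw [E.val_mu i y (Finset.mem_erase.1 hy).1, map_add, map_mul, map_intCast, map_intCast],
    Finset.sum_add_distrib, Finset.sum_const, Finset.card_erase_of_mem (Finset.mem_univ _),
    Finset.card_univ, ← Nat.card_eq_fintype_card, ← Finset.mul_sum, ← map_sum,
    Finset.sum_erase_eq_sub (Finset.mem_univ _), sum_psi (E.R.ne_one i), h.psi_one (E.R.ne_one i)]
  rw [show Nat.card P - 1 = r * m by rw [← E.card]; omega]
  have hq : (Nat.card P : ℂ) ≠ 0 := Nat.cast_ne_zero.2 Nat.card_pos.ne'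
  have hm : (m : ℂ) ≠ 0 := Nat.cast_ne_zero.2 h.pos.ne'
  simp only [zero_sub, map_neg, map_natCast, nsmul_eq_mul, Nat.cast_mul]
  field_simp
  ring

/-- The square sum of the constant values. -/
def Exc.A (E : Exc M P m r) : ℤ := ∑ χ ∈ E.X, E.a χ ^ 2

/-- The exceptional part of the orthogonality relation. -/
theorem Exc.sum_mu_mul (E : Exc M P m r) (h : Ctx P m) (hM : Cfsg.IsPModular p M)
    (u v : ↥(P : Subgroup G)) (hu : u ≠ 1) (hv : v ≠ 1) :
    ∑ i, (E.mu i).1 (u : G) * (E.mu i).1 (v : G) =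
      (if IsConj (u : G) (v : G)⁻¹ then (Nat.card P : ℂ) else 0) - (Exc.A E : ℂ) := by
  rw [← block_sum_mul h hM u v hu, E.sum_block, Exc.A, Int.cast_sum]
  have : ∑ χ ∈ E.X, χ.1 (u : G) * χ.1 (v : G) = ∑ χ ∈ E.X, ((E.a χ ^ 2 : ℤ) : ℂ) :=
    Finset.sum_congr rfl fun χ hχ => by rw [E.val_X χ hχ u hu, E.val_X χ hχ v hv, Int.cast_pow, sq]
  rw [this]; ring

/-- The sum of `a³ / x` over the nontrivial constant members. -/
noncomputable def Exc.S (E : Exc M P m r) : ℝ :=
  ∑ χ ∈ E.X.erase (H26.oneIrr G), (E.a χ : ℝ) ^ 3 / (Cfsg.charDegree (χ : G → ℂ) : ℝ)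

/-- The part of the constant members in `T`. -/
noncomputable def Exc.Xs (E : Exc M P m r) : ℂ :=
  1 - ((Nat.card P : ℂ) - 1) * (1 + (Exc.S E : ℂ)) / ((m : ℂ) * Nat.card P)

/-- The coefficient of the exceptional members in `T`. -/
noncomputable def Exc.cmu (E : Exc M P m r) : ℂ :=
  ((E.e : ℂ) - r * E.d) / ((Nat.card P : ℂ) *
    (Cfsg.charDegree ((E.mu ⟨0, Nat.lt_of_lt_of_le two_pos E.two_le⟩) : G → ℂ) : ℂ))

theorem Exc.T_eq (E : Exc M P m r) (h : Ctx P m) (hM : Cfsg.IsPModular p M)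
    (u v : ↥(P : Subgroup G)) (hu : u ≠ 1) (hv : v ≠ 1) :
    T M p (u : G) (v : G) = Exc.Xs E + Exc.cmu E *
      ((if IsConj (u : G) (v : G)⁻¹ then (Nat.card P : ℂ) else 0) - (Exc.A E : ℂ)) := by
  rw [T, E.sum_block, ← Exc.sum_mu_mul E h hM u v hu hv]
  congr 1
  · rw [Exc.Xs, Exc.S, Complex.ofReal_sum, ← Finset.add_sum_erase _ _ E.one_mem,
      Exc.reg_coeff_X E h hM E.one_mem, if_pos rfl, E.a_one, H26.oneIrr_val, H26.oneIrr_val,
      H26.oneIrr_val]
    have : ∀ χ ∈ E.X.erase (H26.oneIrr G),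
        Cfsg.classInner (reg p) χ.1 * (χ.1 (u : G) * χ.1 (v : G) / χ.1 1) =
          -(((Nat.card P : ℂ) - 1) / ((m : ℂ) * Nat.card P)) *
            (((E.a χ : ℝ) ^ 3 / (Cfsg.charDegree (χ : G → ℂ) : ℝ) : ℝ) : ℂ) := by
      intro χ hχ
      obtain ⟨hne, hX⟩ := Finset.mem_erase.1 hχ
      rw [Exc.reg_coeff_X E h hM hX, if_neg hne, E.val_X χ hX u hu, E.val_X χ hX v hv,
        H42.irr_one_eq]
      push_cast
      ring
    rw [Finset.sum_congr rfl this, ← Finset.mul_sum, Int.cast_one]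
    ring
  · rw [Exc.cmu, Finset.mul_sum]
    refine Finset.sum_congr rfl fun i _ => ?_
    rw [Exc.reg_coeff_mu E h hM i, ← H42.irr_one_eq,
      Exc.deg_mu E i ⟨0, Nat.lt_of_lt_of_le two_pos E.two_le⟩, div_mul_div_comm, div_mul_eq_mul_div]

/-- The equation from all powers. -/
theorem Exc.eq_one (E : Exc M P m r) (h : Ctx P m) (hM : Cfsg.IsPModular p M)
    (hP : IsCyclic (P : Subgroup G))
    (hpair : ∀ a b : G, orderOf a = p → orderOf b = p →
      Cfsg.IsPSolvable p (Subgroup.closure ({a, b} : Set G)))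
    {x : G} (hxP : x ∈ (P : Subgroup G)) (hx : orderOf x = p) :
    ((p : ℂ) - 1) * (Exc.Xs E - Exc.cmu E * (Exc.A E : ℂ)) +
      (m : ℂ) * Nat.card P * Exc.cmu E = 1 := by
  have hp : p.Prime := Fact.out
  refine Eq.trans ?_ (sum_T hP hpair h hM hx)
  have hx1 : x ≠ 1 := fun e => hp.ne_one (by rw [← hx, e, orderOf_one])
  have key : ∀ i ∈ Finset.Ico 1 p, T M p (x ^ i) x⁻¹ = (Exc.Xs E - Exc.cmu E * (Exc.A E : ℂ)) +
      (if IsConj x (x ^ i) then (Nat.card P : ℂ) * Exc.cmu E else 0) := by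
    intro i hi
    obtain ⟨hi1, hi2⟩ := Finset.mem_Ico.1 hi
    have hne : x ^ i ≠ 1 := pow_ne_one_of_lt_orderOf (by omega) (by omega)
    have := Exc.T_eq E h hM ⟨x ^ i, pow_mem hxP i⟩ ⟨x⁻¹, inv_mem hxP⟩
      (fun e => hne (congrArg Subtype.val e)) (fun e => hx1 (inv_eq_one.1 (congrArg Subtype.val e)))
    simp only [inv_inv, isConj_comm (g := x ^ i)] at this
    rw [this]
    split_ifs <;> ring
  rw [Finset.sum_congr rfl key, Finset.sum_add_distrib, Finset.sum_const, Nat.card_Ico,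
    nsmul_eq_mul, Nat.cast_sub hp.one_lt.le, Nat.cast_one, ← Finset.sum_filter, Finset.sum_const,
    card_conj_pow h hP hxP hx, nsmul_eq_mul]
  ring

/-- The equation from a non-conjugate power. -/
theorem Exc.eq_zero (E : Exc M P m r) (h : Ctx P m) (hM : Cfsg.IsPModular p M)
    (hP : IsCyclic (P : Subgroup G))
    (hpair : ∀ a b : G, orderOf a = p → orderOf b = p →
      Cfsg.IsPSolvable p (Subgroup.closure ({a, b} : Set G)))
    {x : G} (hxP : x ∈ (P : Subgroup G)) (hx : orderOf x = p) (hm : m < p - 1) :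
    Exc.Xs E - Exc.cmu E * (Exc.A E : ℂ) = 0 := by
  have hp : p.Prime := Fact.out
  have hx1 : x ≠ 1 := fun e => hp.ne_one (by rw [← hx, e, orderOf_one])
  obtain ⟨i, hi, hnc⟩ : ∃ i ∈ Finset.Ico 1 p, ¬ IsConj x (x ^ i) := by
    by_contra hcon
    push Not at hcon
    have := card_conj_pow h hP hxP hx
    rw [Finset.filter_true_of_mem hcon, Nat.card_Ico] at this
    omega
  obtain ⟨hi1, hi2⟩ := Finset.mem_Ico.1 hi
  have hne : x ^ i ≠ 1 := pow_ne_one_of_lt_orderOf (by omega) (by omega)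
  have hord : orderOf (x ^ i) = p := by
    refine orderOf_eq_prime ?_ hne
    rw [← pow_mul, mul_comm, pow_mul, ← hx, pow_orderOf_eq_one, one_pow]
  have hzero := T_eq_zero hP hpair h hM (x := x) (v := (x ^ i)⁻¹) hx ((orderOf_inv _).trans hord)
    fun hc => hnc (by
      obtain ⟨c, hc⟩ := isConj_iff.1 hc
      exact isConj_iff.2 ⟨c, by rw [← inv_inj, ← hc]; group⟩)
  have := Exc.T_eq E h hM ⟨x, hxP⟩ ⟨(x ^ i)⁻¹, inv_mem (pow_mem hxP i)⟩
    (fun e => hx1 (congrArg Subtype.val e)) (fun e => hne (inv_eq_one.1 (congrArg Subtype.val e)))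
  simp only [inv_inv, hzero, if_neg hnc, zero_sub] at this
  linear_combination -this

end Exc

end Cfsg.Agent.H38.CP
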