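import Cfsg.Agent.H28.AbelianSection
import Mathlib.NumberTheory.Basic

/-!
# Cyclic Sylow subgroups: elementary facts
-/

set_option autoImplicit false
set_option linter.unusedSectionVars false

namespace Cfsg.Agent.H38.CP

variable {G : Type*} [Group G] [Finite G] {p : ℕ} [Fact p.Prime]

/-- Every `p`-subgroup is cyclic. -/
theorem isCyclic_pSubgroup (P : Sylow p G) (hP : IsCyclic (P : Subgroup G)) {Q : Subgroup G}
    (hQ : IsPGroup p Q) : IsCyclic Q := by
  obtain ⟨S, hS⟩ := hQ.exists_le_sylow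
  haveI := hP
  haveI : IsCyclic (S : Subgroup G) :=
    isCyclic_of_surjective (P.equiv S).toMonoidHom (P.equiv S).surjective
  exact isCyclic_of_injective (Subgroup.inclusion hS) (Subgroup.inclusion_injective hS)

/-- Sylow subgroups of subgroups are cyclic. -/
theorem isCyclic_sylow_subgroup (P : Sylow p G) (hP : IsCyclic (P : Subgroup G)) (H : Subgroup G)
    (S : Sylow p H) : IsCyclic (S : Subgroup H) := by
  haveI := isCyclic_pSubgroup P hP (S.2.map H.subtype)
  exact isCyclic_of_injective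
    ((S : Subgroup H).equivMapOfInjective H.subtype H.subtype_injective).toMonoidHom
    (MulEquiv.injective _)

/-- A cyclic group has one subgroup of order `p`. -/
theorem mem_zpowers_of_pow_eq_one {C : Type*} [Group C] [Finite C] [IsCyclic C] {x y : C}
    (hx : x ^ p = 1) (hy : orderOf y = p) : x ∈ Subgroup.zpowers y := by
  classical
  haveI := Fintype.ofFinite C
  have hsub : Finset.univ.filter (fun z : C => z ∈ Subgroup.zpowers y) ⊆
      Finset.univ.filter (fun z : C => z ^ p = 1) := by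
    intro z hz
    obtain ⟨k, rfl⟩ := Subgroup.mem_zpowers_iff.1 (Finset.mem_filter.1 hz).2
    refine Finset.mem_filter.2 ⟨Finset.mem_univ _, ?_⟩
    rw [← zpow_natCast, ← zpow_mul, mul_comm, zpow_mul, zpow_natCast, ← hy, pow_orderOf_eq_one,
      one_zpow]
  have hc : (Finset.univ.filter (fun z : C => z ∈ Subgroup.zpowers y)).card = p := by
    rw [← Fintype.card_subtype, ← Nat.card_eq_fintype_card]
    exact (Nat.card_zpowers y).trans hy
  have := Finset.eq_of_subset_of_card_le hsub
    ((IsCyclic.card_pow_eq_one_le (Fact.out : p.Prime).pos).trans hc.ge)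
  have hxm : x ∈ Finset.univ.filter (fun z : C => z ^ p = 1) :=
    Finset.mem_filter.2 ⟨Finset.mem_univ _, hx⟩
  rw [← this] at hxm
  exact (Finset.mem_filter.1 hxm).2

/-- Subgroups of order `p` are conjugate. -/
theorem exists_conj_pow (P : Sylow p G) (hP : IsCyclic (P : Subgroup G)) {a c : G}
    (ha : orderOf a = p) (hc : orderOf c = p) : ∃ (g : G) (k : ℕ), a = g * c ^ k * g⁻¹ := by
  obtain ⟨A, hA⟩ := (IsPGroup.of_card (p := p) (n := 1)
    (by rw [Nat.card_zpowers, ha, pow_one]) : IsPGroup p (Subgroup.zpowers a)).exists_le_sylow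
  obtain ⟨C, hC⟩ := (IsPGroup.of_card (p := p) (n := 1)
    (by rw [Nat.card_zpowers, hc, pow_one]) : IsPGroup p (Subgroup.zpowers c)).exists_le_sylow
  obtain ⟨g, hg⟩ := MulAction.exists_smul_eq G C A
  have hcA : g * c * g⁻¹ ∈ (A : Subgroup G) := by
    rw [← hg]
    exact H22.conj_mem_smul_sylow (hC (Subgroup.mem_zpowers c))
  haveI := isCyclic_pSubgroup P hP A.2
  have h := mem_zpowers_of_pow_eq_one (p := p) (x := (⟨a, hA (Subgroup.mem_zpowers a)⟩ : (A : Subgroup G)))
    (y := ⟨g * c * g⁻¹, hcA⟩) (Subtype.ext (by simp [← ha, pow_orderOf_eq_one]))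
    (by rw [← Subgroup.orderOf_coe]; exact ((MulAut.conj g).orderOf_eq c).trans hc)
  rw [← mem_powers_iff_mem_zpowers, Submonoid.mem_powers_iff] at h
  obtain ⟨k, hk⟩ := h
  refine ⟨g, k, ?_⟩
  have hk' := congrArg Subtype.val hk
  simp only [SubmonoidClass.coe_pow, conj_pow] at hk'
  exact hk'.symm

/-- A normalising element fixing a nontrivial element of a cyclic Sylow subgroup centralises it. -/
theorem mem_centralizer_of_fix (P : Sylow p G) (hP : IsCyclic (P : Subgroup G)) {n : G}
    (hn : n ∈ Subgroup.normalizer ((P : Subgroup G) : Set G)) {y : G} (hy : y ∈ (P : Subgroup G))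
    (hy1 : y ≠ 1) (hc : n * y = y * n) :
    n ∈ Subgroup.centralizer ((P : Subgroup G) : Set G) := by
  set N := Subgroup.normalizer ((P : Subgroup G) : Set G) with hN
  set C := Subgroup.centralizer ((P : Subgroup G) : Set G) with hC
  haveI := hP
  obtain ⟨⟨g, hg⟩, hgen⟩ := IsCyclic.exists_generator (α := (P : Subgroup G))
  have hgen' : ∀ z ∈ (P : Subgroup G), ∃ i : ℤ, g ^ i = z := by
    intro z hz
    obtain ⟨i, hi⟩ := Subgroup.mem_zpowers_iff.1 (hgen ⟨z, hz⟩)
    exact ⟨i, by simpa using congrArg Subtype.val hi⟩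
  obtain ⟨a, ha⟩ := H28.Ab.exists_orderOf (P := P) ⟨g, hg⟩
  simp only at ha
  obtain ⟨k, hk⟩ := hgen' _ ((Subgroup.mem_normalizer_iff.1 hn g).1 hg)
  obtain ⟨i, hi⟩ := hgen' y hy
  have h1 : g ^ (k * i) = g ^ i := by
    rw [zpow_mul, hk, conj_zpow, hi, hc, mul_inv_cancel_right]
  have h2 : ((p ^ a : ℕ) : ℤ) ∣ (k - 1) * i := by
    rw [← ha, orderOf_dvd_iff_zpow_eq_one, sub_mul, one_mul, zpow_sub, h1, mul_inv_cancel]
  have h3 : (p : ℤ) ∣ k - 1 := by
    by_contra hnd
    have hcop : IsCoprime ((p ^ a : ℕ) : ℤ) (k - 1) := by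
      rw [Nat.cast_pow]
      exact ((Nat.prime_iff_prime_int.1 Fact.out).coprime_iff_not_dvd.2 hnd).pow_left
    have := hcop.dvd_of_dvd_mul_left h2
    rw [← ha, orderOf_dvd_iff_zpow_eq_one, hi] at this
    exact hy1 this
  have h4 : ∀ j : ℕ, n ^ j * g * (n ^ j)⁻¹ = g ^ (k ^ j) := by
    intro j
    induction j with
    | zero => simp
    | succ j ih =>
      calc n ^ (j + 1) * g * (n ^ (j + 1))⁻¹ = n * (n ^ j * g * (n ^ j)⁻¹) * n⁻¹ := by
            rw [pow_succ']; group
        _ = (n * g * n⁻¹) ^ (k ^ j) := by rw [ih, conj_zpow]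
        _ = g ^ (k ^ (j + 1)) := by rw [← hk, ← zpow_mul, ← pow_succ']
  have h5 : n ^ p ^ a ∈ C := by
    have hd : ((p ^ a : ℕ) : ℤ) ∣ k ^ p ^ a - 1 := by
      have := dvd_sub_pow_of_dvd_sub h3 a
      rw [one_pow] at this
      refine dvd_trans ?_ this
      rw [Nat.cast_pow]
      exact pow_dvd_pow _ (Nat.le_succ a)
    have hfix : n ^ p ^ a * g = g * n ^ p ^ a := by
      have e := h4 (p ^ a)
      have hd' : (orderOf g : ℤ) ∣ k ^ p ^ a - 1 := by rw [ha]; exact hd
      rw [orderOf_dvd_iff_zpow_eq_one, zpow_sub, zpow_one, mul_inv_eq_one] at hd'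
      rw [hd', mul_inv_eq_iff_eq_mul] at e
      exact e
    rw [hC, Subgroup.mem_centralizer_iff]
    intro z hz
    obtain ⟨j, rfl⟩ := hgen' z hz
    exact ((show Commute (n ^ p ^ a) g from hfix).zpow_right j).eq.symm
  haveI : (C.subgroupOf N).Normal := by
    rw [hC, hN, ← Subgroup.normalizerMonoidHom_ker]
    infer_instance
  have h6 : (⟨n, hn⟩ : N) ^ C.relIndex N ∈ C.subgroupOf N := Subgroup.pow_index_mem _ _
  have hcop : Nat.Coprime (C.relIndex N) (p ^ a) := by
    refine ((Nat.Prime.coprime_iff_not_dvd Fact.out).2 fun hd => P.not_dvd_index ?_).symm.pow_right a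
    have hPC : (P : Subgroup G) ≤ C := fun z hz => by
      rw [hC, Subgroup.mem_centralizer_iff]
      intro w hw
      obtain ⟨i, rfl⟩ := hgen' z hz
      obtain ⟨j, rfl⟩ := hgen' w hw
      exact (Commute.refl g).zpow_zpow j i
    exact hd.trans ((Subgroup.relIndex_dvd_of_le_left N hPC).trans
      (Subgroup.relIndex_dvd_index_of_le Subgroup.le_normalizer))
  have h7 : QuotientGroup.mk' (C.subgroupOf N) (⟨n, hn⟩ : N) = 1 := by
    rw [← orderOf_eq_one_iff]
    refine Nat.eq_one_of_dvd_coprimes hcop ?_ ?_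
    · exact orderOf_dvd_of_pow_eq_one (by
        rw [← map_pow, QuotientGroup.mk'_apply, QuotientGroup.eq_one_iff]; exact h6)
    · exact orderOf_dvd_of_pow_eq_one (by
        rw [← map_pow, QuotientGroup.mk'_apply, QuotientGroup.eq_one_iff, Subgroup.mem_subgroupOf]
        exact h5)
  rw [QuotientGroup.mk'_apply, QuotientGroup.eq_one_iff, Subgroup.mem_subgroupOf] at h7
  exact h7

/-- A cyclic Sylow subgroup satisfies the hypotheses for sections. -/
theorem ctx (P : Sylow p G) (hP : IsCyclic (P : Subgroup G)) :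
    H28.Ab.Ctx P ((Subgroup.centralizer ((P : Subgroup G) : Set G)).relIndex
      (Subgroup.normalizer ((P : Subgroup G) : Set G))) := by
  haveI := hP
  refine ⟨IsCyclic.isMulCommutative, rfl, fun y hy hy1 => le_antisymm ?_ ?_⟩
  · rintro n ⟨hn1, hn2⟩
    exact mem_centralizer_of_fix P hP hn2 hy hy1 (Subgroup.mem_centralizer_singleton_iff.1 hn1)
  · exact le_inf (Subgroup.centralizer_le (Set.singleton_subset_iff.2 hy)) (Subgroup.centralizer_le_normalizer _)

/-- The powers of an element of order `p` conjugate to it. -/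
theorem card_conj_pow {P : Sylow p G} {m : ℕ} (h : H28.Ab.Ctx P m)
    (hP : IsCyclic (P : Subgroup G)) {x : G} (hxP : x ∈ (P : Subgroup G)) (hx : orderOf x = p)
    [DecidablePred fun i : ℕ => IsConj x (x ^ i)] :
    ((Finset.Ico 1 p).filter fun i => IsConj x (x ^ i)).card = m := by
  classical
  haveI := hP
  haveI := Fintype.ofFinite ↥(P : Subgroup G)
  set x' : ↥(P : Subgroup G) := ⟨x, hxP⟩ with hx'
  have hx1 : x' ≠ 1 := fun e => (Fact.out : p.Prime).ne_one
    (by rw [← hx, orderOf_eq_one_iff]; exact congrArg Subtype.val e)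
  rw [← h.card_conj hx1, Nat.card_eq_fintype_card, Fintype.card_subtype]
  refine Finset.card_bij (fun i _ => x' ^ i) (fun i hi => ?_) (fun i hi j hj e => ?_) ?_
  · simpa [hx'] using (Finset.mem_filter.1 hi).2
  · refine pow_injOn_Iio_orderOf (x := x) ?_ ?_ (congrArg Subtype.val e)
    · rw [hx]; exact (Finset.mem_Ico.1 (Finset.mem_filter.1 hi).1).2
    · rw [hx]; exact (Finset.mem_Ico.1 (Finset.mem_filter.1 hj).1).2
  · intro z hz
    have hz' : IsConj x (z : G) := (Finset.mem_filter.1 hz).2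
    have hzo : orderOf (z : G) = p := by
      obtain ⟨c, hc⟩ := isConj_iff.1 hz'
      rw [← hc]; exact ((MulAut.conj c).orderOf_eq x).trans hx
    have hmem := mem_zpowers_of_pow_eq_one (p := p) (x := z) (y := x')
      (Subtype.ext (by simp [← hzo, pow_orderOf_eq_one])) (by rw [← Subgroup.orderOf_coe]; exact hx)
    rw [← mem_powers_iff_mem_zpowers, Submonoid.mem_powers_iff] at hmem
    obtain ⟨k, rfl⟩ := hmem
    refine ⟨k % p, Finset.mem_filter.2 ⟨Finset.mem_Ico.2 ⟨?_, Nat.mod_lt _ (Fact.out : p.Prime).pos⟩, ?_⟩, ?_⟩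
    · refine Nat.one_le_iff_ne_zero.2 fun h0 => (Fact.out : p.Prime).ne_one ?_
      rw [← hzo, orderOf_eq_one_iff, SubmonoidClass.coe_pow, ← pow_mod_orderOf, hx, h0, pow_zero]
    · rwa [SubmonoidClass.coe_pow, ← pow_mod_orderOf, hx] at hz'
    · refine Subtype.ext ?_
      rw [SubmonoidClass.coe_pow, SubmonoidClass.coe_pow]
      conv_rhs => rw [← pow_mod_orderOf, hx]

/-- With trivial automiser the group has a normal `p`-complement. -/
theorem exists_complement_of_index_one {P : Sylow p G} (h : H28.Ab.Ctx P 1) :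
    ∃ K : Subgroup G, K.Normal ∧ ¬ p ∣ Nat.card K ∧ K.index = Nat.card P := by
  have hle : Subgroup.normalizer ((P : Subgroup G) : Set G) ≤
      Subgroup.centralizer ((P : Subgroup G) : Set G) := Subgroup.relIndex_eq_one.1 h.index
  exact ⟨_, MonoidHom.normal_ker _, MonoidHom.not_dvd_card_ker_transferSylow P hle,
    (MonoidHom.ker_transferSylow_isComplement' P hle).symm.index_eq_card⟩

end Cfsg.Agent.H38.CP
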