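import Cfsg.Agent.H38.CyclicPairs.Cyclic
import Cfsg.Agent.H59.PSolvable

/-!
# Two elements of order `p` generating a `p`-solvable subgroup
-/

set_option autoImplicit false
set_option linter.unusedSectionVars false

namespace Cfsg.Agent.H38.CP

variable {G : Type*} [Group G] [Finite G] {p : ℕ} [Fact p.Prime]

/-- A nontrivial `p`-soluble group has a proper normal subgroup of index a `p`-power or prime to
`p`. -/
theorem exists_top_step {H : Type*} [Group H] [Nontrivial H] (h : Cfsg.IsPSolvable p H) :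
    ∃ K : Subgroup H, K.Normal ∧ K ≠ ⊤ ∧ ((∃ k, K.index = p ^ k) ∨ ¬ p ∣ K.index) := by
  obtain ⟨n, S, h0, hn, hmono, hnor, hstep⟩ := h
  by_contra hcon
  have : ∀ i, S i = ⊤ := by
    intro i
    induction i using Fin.reverseInduction with
    | last => exact hn
    | cast j ih =>
      by_contra hne
      have hj := hstep j
      rw [ih, Subgroup.relIndex_top_right] at hj
      exact hcon ⟨_, hnor _, hne,
        hj.imp id fun hc => (Fact.out : p.Prime).coprime_iff_not_dvd.1 hc.symm⟩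
  exact bot_ne_top (h0.symm.trans (this 0))

section

variable (P : Sylow p G) (hP : IsCyclic (P : Subgroup G)) {a b : G} (ha : orderOf a = p)
  (hb : orderOf b = p) (hs : Cfsg.IsPSolvable p (Subgroup.closure ({a, b} : Set G)))

include hP ha hb hs

/-- The subgroup generated has a normal subgroup of index `p` and order prime to `p`. -/
theorem exists_kernel : ∃ K : Subgroup (Subgroup.closure ({a, b} : Set G)),
    K.Normal ∧ ¬ p ∣ Nat.card K ∧ K.index = p := by
  have hp : p.Prime := Fact.out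
  set H := Subgroup.closure ({a, b} : Set G)
  have haH : a ∈ Subgroup.closure ({a, b} : Set G) := Subgroup.subset_closure (Set.mem_insert _ _)
  have hbH : b ∈ Subgroup.closure ({a, b} : Set G) := Subgroup.subset_closure (Set.mem_insert_of_mem _ rfl)
  have hao : orderOf (⟨a, haH⟩ : H) = p := by rw [← Subgroup.orderOf_coe]; exact ha
  have hbo : orderOf (⟨b, hbH⟩ : H) = p := by rw [← Subgroup.orderOf_coe]; exact hb
  haveI : Nontrivial H := ⟨⟨⟨a, haH⟩, 1, fun e => hp.ne_one
    (by rw [← hao, orderOf_eq_one_iff.2 e])⟩⟩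
  have hgen : ∀ K : Subgroup H, (⟨a, haH⟩ : H) ∈ K → (⟨b, hbH⟩ : H) ∈ K → K = ⊤ := by
    intro K h1 h2
    refine eq_top_iff.2 fun ⟨z, hz⟩ _ => ?_
    have hle : H ≤ K.map H.subtype := (Subgroup.closure_le _).2 (by
      rintro w (rfl | rfl)
      exacts [⟨_, h1, rfl⟩, ⟨_, h2, rfl⟩])
    obtain ⟨w, hw, e⟩ := hle hz
    rwa [show (⟨z, hz⟩ : H) = w from Subtype.ext e.symm]
  obtain ⟨S⟩ : Nonempty (Sylow p H) := inferInstance
  haveI hS := isCyclic_sylow_subgroup P hP H S
  obtain ⟨K, hKn, hKtop, hK⟩ := exists_top_step hs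
  have hidx : ∃ k, K.index = p ^ k := by
    refine hK.resolve_right fun hnd => hKtop (hgen K ?_ ?_)
    · exact H59.mem_of_normal_index_coprime (p := p) hnd (k := 1)
        (by rw [pow_one]; rw [← hao]; exact pow_orderOf_eq_one _)
    · exact H59.mem_of_normal_index_coprime (p := p) hnd (k := 1)
        (by rw [pow_one]; rw [← hbo]; exact pow_orderOf_eq_one _)
  obtain ⟨k, hk⟩ := hidx
  have hQp : IsPGroup p (H ⧸ K) := IsPGroup.of_card (by rw [← Subgroup.index_eq_card, hk])
  let T : Sylow p (H ⧸ K) := S.mapSurjective (QuotientGroup.mk'_surjective K)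
  have hTtop : (T : Subgroup (H ⧸ K)) = ⊤ :=
    T.3 (hQp.to_subgroup ⊤) le_top |>.symm
  haveI : IsCyclic (H ⧸ K) := by
    haveI : IsCyclic (T : Subgroup (H ⧸ K)) := by
      show IsCyclic ((S : Subgroup H).map (QuotientGroup.mk' K))
      exact isCyclic_of_surjective _ ((QuotientGroup.mk' K).subgroupMap_surjective _)
    exact isCyclic_of_surjective (T : Subgroup (H ⧸ K)).subtype
      (fun z => ⟨⟨z, hTtop ▸ Subgroup.mem_top z⟩, rfl⟩)
  obtain ⟨g, hg⟩ := IsCyclic.exists_generator (α := H ⧸ K)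
  letI := IsCyclic.commGroup (α := H ⧸ K)
  have hexp : ∀ z : H ⧸ K, z ^ p = 1 := by
    intro z
    have h2 : ((powMonoidHom p : (H ⧸ K) →* (H ⧸ K)).comp (QuotientGroup.mk' K)).ker = ⊤ :=
      hgen _
        (show ((⟨a, haH⟩ : H) : H ⧸ K) ^ p = 1 by
          rw [← QuotientGroup.mk_pow]; rw [← hao, pow_orderOf_eq_one]; rfl)
        (show ((⟨b, hbH⟩ : H) : H ⧸ K) ^ p = 1 by
          rw [← QuotientGroup.mk_pow]; rw [← hbo, pow_orderOf_eq_one]; rfl)
    obtain ⟨w, rfl⟩ := QuotientGroup.mk'_surjective K z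
    exact (MonoidHom.mem_ker.1 (h2 ▸ Subgroup.mem_top w) : _)
  have hKp : K.index = p := by
    have h1 : K.index = orderOf g := by
      rw [Subgroup.index_eq_card, orderOf_eq_card_of_forall_mem_zpowers hg]
    refine ((Nat.dvd_prime hp).1 (h1 ▸ orderOf_dvd_of_pow_eq_one (hexp g))).resolve_left
      fun e => hKtop (Subgroup.index_eq_one.1 e)
  refine ⟨K, hKn, fun hd => hKtop ?_, hKp⟩
  obtain ⟨⟨c, hcK⟩, hc⟩ := exists_prime_orderOf_dvd_card' p hd
  have hc' : orderOf c = p := (Subgroup.orderOf_coe (⟨c, hcK⟩ : K)).trans hc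
  refine hgen K ?_ ?_
  · obtain ⟨u, j, e⟩ := exists_conj_pow S hS hao hc'
    rw [e]; exact hKn.conj_mem _ (pow_mem hcK j) u
  · obtain ⟨u, j, e⟩ := exists_conj_pow S hS hbo hc'
    rw [e]; exact hKn.conj_mem _ (pow_mem hcK j) u

/-- The homomorphism onto a group of order `p` detecting regular elements. -/
theorem exists_detect : ∃ (K : Subgroup (Subgroup.closure ({a, b} : Set G))) (_ : K.Normal),
    K.index = p ∧ ∀ h : Subgroup.closure ({a, b} : Set G),
      ((h : Subgroup.closure ({a, b} : Set G) ⧸ K) = 1 ↔ ¬ p ∣ orderOf (h : G)) := by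
  obtain ⟨K, hKn, hKd, hKp⟩ := exists_kernel P hP ha hb hs
  haveI := Fintype.ofFinite (Subgroup.closure ({a, b} : Set G))
  refine ⟨K, hKn, hKp, fun h => ?_⟩
  rw [QuotientGroup.eq_one_iff, Subgroup.orderOf_coe]
  exact ⟨fun hh hd => hKd (hd.trans (Subgroup.orderOf_dvd_natCard K hh)),
    H41.mem_of_regular_of_index K ⟨1, by rw [hKp, pow_one]⟩⟩

/-- A regular product forces the second to be conjugate to the inverse of the first. -/
theorem isConj_inv_of_regular (h : ¬ p ∣ orderOf (a * b)) : IsConj a⁻¹ b := by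
  have hp : p.Prime := Fact.out
  obtain ⟨K, hKn, hKp, hdet⟩ := exists_detect P hP ha hb hs
  have haH : a ∈ Subgroup.closure ({a, b} : Set G) := Subgroup.subset_closure (Set.mem_insert _ _)
  have hbH : b ∈ Subgroup.closure ({a, b} : Set G) := Subgroup.subset_closure (Set.mem_insert_of_mem _ rfl)
  obtain ⟨S⟩ : Nonempty (Sylow p (Subgroup.closure ({a, b} : Set G))) := inferInstance
  obtain ⟨u, j, e⟩ := exists_conj_pow S (isCyclic_sylow_subgroup P hP _ S)
    (show orderOf (⟨b, hbH⟩ : Subgroup.closure ({a, b} : Set G)) = p by rw [← Subgroup.orderOf_coe]; exact hb)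
    (show orderOf (⟨a, haH⟩ : Subgroup.closure ({a, b} : Set G)) = p by rw [← Subgroup.orderOf_coe]; exact ha)
  haveI : IsCyclic (_ ⧸ K) := isCyclic_of_prime_card (p := p) (by rw [← Subgroup.index_eq_card, hKp])
  letI := IsCyclic.commGroup (α := _ ⧸ K)
  have hb' : ((⟨b, hbH⟩ : Subgroup.closure ({a, b} : Set G)) : _ ⧸ K) = ((⟨a, haH⟩ : Subgroup.closure ({a, b} : Set G)) : _ ⧸ K) ^ j := by
    rw [e, QuotientGroup.mk_mul, QuotientGroup.mk_mul, QuotientGroup.mk_inv, mul_comm,
      inv_mul_cancel_left, QuotientGroup.mk_pow]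
  have hab : ((⟨a, haH⟩ : Subgroup.closure ({a, b} : Set G)) : _ ⧸ K) ^ (j + 1) = 1 := by
    rw [pow_succ', ← hb', ← QuotientGroup.mk_mul, hdet]
    exact h
  have hord : orderOf ((⟨a, haH⟩ : Subgroup.closure ({a, b} : Set G)) : _ ⧸ K) = p := by
    refine orderOf_eq_prime ?_ fun e1 => (hdet ⟨a, haH⟩).1 e1 (by rw [ha])
    rw [← QuotientGroup.mk_pow]
    have : (⟨a, haH⟩ : Subgroup.closure ({a, b} : Set G)) ^ p = 1 := Subtype.ext (by simp [← ha, pow_orderOf_eq_one])
    rw [this]; rfl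
  have hdvd : p ∣ j + 1 := hord ▸ orderOf_dvd_of_pow_eq_one hab
  have haj : a ^ j = a⁻¹ := by
    refine eq_inv_of_mul_eq_one_left ?_
    rw [← pow_succ, ← orderOf_dvd_iff_pow_eq_one, ha]
    exact hdvd
  refine isConj_iff.2 ⟨(u : G), ?_⟩
  have e' := congrArg Subtype.val e
  simp only [Subgroup.coe_mul, Subgroup.coe_inv, SubmonoidClass.coe_pow, haj] at e'
  exact e'.symm

/-- Exactly one nontrivial power of the first element gives a regular product. -/
theorem card_regular_pow :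
    ((Finset.Ico 1 p).filter fun i => ¬ p ∣ orderOf (a ^ i * b)).card = 1 := by
  have hp : p.Prime := Fact.out
  obtain ⟨K, hKn, hKp, hdet⟩ := exists_detect P hP ha hb hs
  have haH : a ∈ Subgroup.closure ({a, b} : Set G) := Subgroup.subset_closure (Set.mem_insert _ _)
  have hbH : b ∈ Subgroup.closure ({a, b} : Set G) := Subgroup.subset_closure (Set.mem_insert_of_mem _ rfl)
  have hcard : Nat.card (_ ⧸ K) = p := by rw [← Subgroup.index_eq_card, hKp]
  have ha1 : ((⟨a, haH⟩ : Subgroup.closure ({a, b} : Set G)) : _ ⧸ K) ≠ 1 := fun e1 => (hdet ⟨a, haH⟩).1 e1 (by rw [ha])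
  have hord : orderOf ((⟨a, haH⟩ : Subgroup.closure ({a, b} : Set G)) : _ ⧸ K) = p := by
    refine ((Nat.dvd_prime hp).1 (hcard ▸ orderOf_dvd_natCard _)).resolve_left ?_
    rw [orderOf_eq_one_iff]; exact ha1
  obtain ⟨k, hkb⟩ := (Submonoid.mem_powers_iff _ _).1
    ((mem_powers_iff_mem_zpowers).2 (mem_zpowers_of_prime_card (g' := ((⟨b, hbH⟩ : Subgroup.closure ({a, b} : Set G)) : _ ⧸ K))
      hcard ha1))
  rw [← pow_mod_orderOf, hord] at hkb
  have hk0 : k % p ≠ 0 := fun e => (hdet ⟨b, hbH⟩).1 (by rw [← hkb, e, pow_zero]) (by rw [hb])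
  have key : ∀ i, ¬ p ∣ orderOf (a ^ i * b) ↔ p ∣ i + k % p := by
    intro i
    have h1 := hdet ((⟨a, haH⟩ : Subgroup.closure ({a, b} : Set G)) ^ i * ⟨b, hbH⟩)
    rw [QuotientGroup.mk_mul, QuotientGroup.mk_pow, ← hkb, ← pow_add,
      ← orderOf_dvd_iff_pow_eq_one, hord] at h1
    simp only [Subgroup.coe_mul, SubmonoidClass.coe_pow] at h1
    exact h1.symm
  rw [Finset.card_eq_one]
  refine ⟨p - k % p, ?_⟩
  have hkp := Nat.mod_lt k hp.pos
  ext i
  simp only [Finset.mem_filter, Finset.mem_Ico, Finset.mem_singleton, key]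
  constructor
  · rintro ⟨⟨hi1, hi2⟩, hd⟩
    obtain ⟨c, hc⟩ := hd
    rcases c with _ | _ | c
    · omega
    · omega
    · nlinarith [Nat.zero_le c, hp.pos]
  · intro hi
    exact ⟨by omega, 1, by omega⟩

/-- The product has order not divisible by `p²`. -/
theorem not_sq_dvd : ¬ p ^ 2 ∣ orderOf (a * b) := by
  obtain ⟨K, hKn, hKp, hdet⟩ := exists_detect P hP ha hb hs
  have haH : a ∈ Subgroup.closure ({a, b} : Set G) := Subgroup.subset_closure (Set.mem_insert _ _)
  have hbH : b ∈ Subgroup.closure ({a, b} : Set G) := Subgroup.subset_closure (Set.mem_insert_of_mem _ rfl)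
  intro hd
  have h1 := (hdet ((⟨a, haH⟩ * ⟨b, hbH⟩ : Subgroup.closure ({a, b} : Set G)) ^ p)).1 (by
    rw [QuotientGroup.mk_pow]
    exact orderOf_dvd_iff_pow_eq_one.1 (hKp ▸ K.index_eq_card ▸ orderOf_dvd_natCard _))
  simp only [SubmonoidClass.coe_pow, Subgroup.coe_mul] at h1
  apply h1
  rw [orderOf_pow' _ (Fact.out : p.Prime).ne_zero,
    Nat.gcd_eq_right (dvd_trans (dvd_pow_self p two_ne_zero) hd)]
  obtain ⟨c, hc⟩ := hd
  rw [hc]
  exact ⟨c, by rw [sq, mul_assoc, Nat.mul_div_cancel_left _ (Fact.out : p.Prime).pos]⟩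

end

end Cfsg.Agent.H38.CP
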