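import Cfsg.Agent.H38.CyclicPairs.Simple
import Cfsg.Agent.H84.PSolvable

/-!
# Cyclic Sylow subgroups: `p`-solubility from pairs of elements of order `p`
-/

set_option autoImplicit false
set_option linter.unusedSectionVars false

namespace Cfsg.Agent.H38.CP

universe u

variable {G : Type u} [Group G] [Finite G] {p : ℕ} [Fact p.Prime]

/-- A group which is a `p`-group or of order prime to `p` is `p`-soluble. -/
theorem isPSolvable_of_card (h : (∃ k, Nat.card G = p ^ k) ∨ ¬ p ∣ Nat.card G) :
    Cfsg.IsPSolvable p G := by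
  refine ⟨1, ![⊥, ⊤], rfl, rfl, fun i j hij => ?_, fun i => ?_, fun i => ?_⟩
  · fin_cases i <;> fin_cases j <;> simp_all
  · fin_cases i
    · show (⊥ : Subgroup G).Normal; infer_instance
    · show (⊤ : Subgroup G).Normal; infer_instance
  · fin_cases i
    simp only [Matrix.cons_val_zero, Fin.castSucc, Fin.succ]
    rcases h with ⟨k, hk⟩ | h
    · exact Or.inl ⟨k, by simpa using hk⟩
    · exact Or.inr (by simpa using ((Fact.out : p.Prime).coprime_iff_not_dvd.2 h).symm)

/-- Extensions by a normal `p`-group or `p'`-group. -/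
theorem isPSolvable_extend (N : Subgroup G) [N.Normal]
    (hN : (∃ k, Nat.card N = p ^ k) ∨ ¬ p ∣ Nat.card N) (h : Cfsg.IsPSolvable p (G ⧸ N)) :
    Cfsg.IsPSolvable p G := by
  obtain ⟨n, H, h0, hn, hmono, hnor, hstep⟩ := h
  let f := QuotientGroup.mk' N
  refine ⟨n + 1, Fin.cons ⊥ (fun i => (H i).comap f), rfl, ?_, ?_, ?_, ?_⟩
  · rw [show Fin.last (n + 1) = Fin.succ (Fin.last n) from rfl, Fin.cons_succ, hn,
      Subgroup.comap_top]
  · intro i j hij
    induction i using Fin.cases with
    | zero => exact bot_le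
    | succ i =>
      induction j using Fin.cases with
      | zero => exact absurd hij (not_le.2 (Fin.succ_pos i))
      | succ j =>
        rw [Fin.cons_succ, Fin.cons_succ]
        exact Subgroup.comap_mono (hmono (Fin.succ_le_succ_iff.1 hij))
  · intro i
    induction i using Fin.cases with
    | zero => rw [Fin.cons_zero]; infer_instance
    | succ i => rw [Fin.cons_succ]; exact (hnor i).comap _
  · intro i
    induction i using Fin.cases with
    | zero =>
      rw [Fin.castSucc_zero, Fin.cons_zero, Fin.cons_succ, h0, MonoidHom.comap_bot,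
        QuotientGroup.ker_mk', Subgroup.relIndex_bot_left]
      exact hN.imp id fun hh => ((Fact.out : p.Prime).coprime_iff_not_dvd.2 hh).symm
    | succ i =>
      rw [← Fin.succ_castSucc, Fin.cons_succ, Fin.cons_succ, Subgroup.relIndex_comap,
        Subgroup.map_comap_eq_self_of_surjective (QuotientGroup.mk'_surjective N)]
      exact hstep i

/-- A normal subgroup of order `p` forces `p`-solubility. -/
theorem isPSolvable_of_normal_prime (P : Sylow p G) (hP : IsCyclic (P : Subgroup G)) {c : G}
    (hc : orderOf c = p) (hn : (Subgroup.zpowers c).Normal) : Cfsg.IsPSolvable p G := by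
  have hp : p.Prime := Fact.out
  have hc1 : c ≠ 1 := fun e => hp.ne_one (by rw [← hc, e, orderOf_one])
  have hcP : c ∈ (P : Subgroup G) := by
    haveI := hn
    exact (IsPGroup.of_card (p := p) (n := 1) (by rw [Nat.card_zpowers, hc, pow_one]) :
      IsPGroup p (Subgroup.zpowers c)).le_sylow_of_normal P (Subgroup.mem_zpowers c)
  obtain ⟨C, hC⟩ : ∃ C : Subgroup G, C = Subgroup.centralizer ({c} : Set G) := ⟨_, rfl⟩
  have hex := (ctx P hP).exists_complement hcP hc1
  rw [← hC] at hex
  obtain ⟨O, hOn, hOp, hOi⟩ := hex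
  have hpow : ∀ g : G, ∃ k : ℤ, g * c * g⁻¹ = c ^ k := fun g => by
    obtain ⟨k, hk⟩ := Subgroup.mem_zpowers_iff.1 (hn.conj_mem c (Subgroup.mem_zpowers c) g)
    exact ⟨k, hk.symm⟩
  have hCn : C.Normal := by
    refine ⟨fun x hx g => ?_⟩
    rw [hC, Subgroup.mem_centralizer_singleton_iff] at hx ⊢
    obtain ⟨k, hk⟩ := hpow g⁻¹
    rw [inv_inv] at hk
    have hxk : x * c ^ k = c ^ k * x := ((show Commute x c from hx).zpow_right k).eq
    calc g * x * g⁻¹ * c = g * (x * (g⁻¹ * c * g)) * g⁻¹ := by group
      _ = g * (c ^ k * x) * g⁻¹ := by rw [hk, hxk]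
      _ = g * ((g⁻¹ * c * g) * x) * g⁻¹ := by rw [hk]
      _ = c * (g * x * g⁻¹) := by group
  have hidx : ¬ p ∣ C.index := by
    intro hd
    refine P.not_dvd_index (hd.trans (Subgroup.index_dvd_of_le fun z hz => ?_))
    rw [hC, Subgroup.mem_centralizer_singleton_iff]
    exact congrArg Subtype.val ((ctx P hP).comm.1.1 (⟨z, hz⟩ : ↥(P : Subgroup G)) ⟨c, hcP⟩)
  obtain ⟨k, hk⟩ := IsPGroup.iff_card.1 P.2
  have hOmem : ∀ z : C, z ∈ O ↔ ¬ p ∣ orderOf (z : G) := fun z => by
    haveI := Fintype.ofFinite C
    rw [Subgroup.orderOf_coe]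
    exact ⟨fun hz hd => hOp (hd.trans (Subgroup.orderOf_dvd_natCard O hz)),
      H41.mem_of_regular_of_index O ⟨k, hOi.trans hk⟩⟩
  set K := O.map C.subtype with hK
  have hKn : K.Normal := by
    refine ⟨?_⟩
    rintro _ ⟨z, hz, rfl⟩ g
    refine ⟨⟨g * z * g⁻¹, hCn.conj_mem _ z.2 g⟩, (hOmem _).2 ?_, rfl⟩
    show ¬ p ∣ orderOf (g * (z : G) * g⁻¹)
    rw [show orderOf (g * (z : G) * g⁻¹) = orderOf (z : G) from (MulAut.conj g).orderOf_eq z]
    exact (hOmem z).1 hz
  have hKC : K ≤ C := Subgroup.map_subtype_le O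
  refine ⟨3, ![⊥, K, C, ⊤], rfl, rfl, ?_, ?_, ?_⟩
  · refine Fin.monotone_iff_le_succ.2 fun i => ?_
    fin_cases i
    · exact bot_le
    · exact hKC
    · exact le_top
  · intro i
    fin_cases i
    · show (⊥ : Subgroup G).Normal; infer_instance
    · exact hKn
    · exact hCn
    · show (⊤ : Subgroup G).Normal; infer_instance
  · intro i
    fin_cases i
    · refine Or.inr ?_
      show ((⊥ : Subgroup G).relIndex K).Coprime p
      rw [Subgroup.relIndex_bot_left, hK, Subgroup.card_map_of_injective C.subtype_injective]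
      exact (hp.coprime_iff_not_dvd.2 hOp).symm
    · refine Or.inl ⟨k, ?_⟩
      show K.relIndex C = p ^ k
      rw [Subgroup.relIndex, hK, Subgroup.subgroupOf,
        Subgroup.comap_map_eq_self_of_injective C.subtype_injective, hOi, hk]
    · refine Or.inr ?_
      show (C.relIndex ⊤).Coprime p
      rw [Subgroup.relIndex_top_right]
      exact (hp.coprime_iff_not_dvd.2 hidx).symm

/-- The main theorem. -/
theorem isPSolvable_of_pairs : ∀ (n : ℕ) (G : Type u) [Group G] [Finite G], Nat.card G = n →
    ∀ P : Sylow p G, IsCyclic (P : Subgroup G) →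
    (∀ a b : G, orderOf a = p → orderOf b = p →
      Cfsg.IsPSolvable p (Subgroup.closure ({a, b} : Set G))) →
    Cfsg.IsPSolvable p G := by
  intro n
  induction n using Nat.strong_induction_on with
  | _ n ih =>
    intro G _ _ hG P hP hpair
    have hp : p.Prime := Fact.out
    by_cases hdvd : p ∣ Nat.card G
    swap
    · exact isPSolvable_of_card (Or.inr hdvd)
    haveI : Nontrivial G := Finite.one_lt_card_iff_nontrivial.1
      (lt_of_lt_of_le hp.one_lt (Nat.le_of_dvd Nat.card_pos hdvd))
    by_cases hsimple : IsSimpleGroup G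
    · haveI := hsimple
      haveI := Fintype.ofFinite G
      have h := ctx P hP
      set m := (Subgroup.centralizer ((P : Subgroup G) : Set G)).relIndex
        (Subgroup.normalizer ((P : Subgroup G) : Set G))
      rcases Nat.lt_or_ge m 2 with hm | hm
      · obtain ⟨K, hKn, hKp, hKi⟩ := exists_complement_of_index_one (P := P)
          (show H28.Ab.Ctx P 1 from (show m = 1 by have := h.pos; omega) ▸ h)
        rcases hKn.eq_bot_or_eq_top with hb | ht
        · obtain ⟨k, hk⟩ := IsPGroup.iff_card.1 P.2
          exact isPSolvable_of_card (Or.inl ⟨k, by rw [← hk, ← hKi, hb, Subgroup.index_bot]⟩)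
        · exact absurd hdvd (by rw [ht, Subgroup.card_top] at hKp; exact hKp)
      · obtain ⟨M, hM⟩ := H42.exists_isPModular hp
        exact (simple_false hP hpair h hM hm hdvd).elim
    -- a minimal normal subgroup
    obtain ⟨L, hL, hLbot, hLtop⟩ : ∃ L : Subgroup G, L.Normal ∧ L ≠ ⊥ ∧ L ≠ ⊤ := by
      by_contra hcon
      push Not at hcon
      exact hsimple ⟨fun L hL => or_iff_not_imp_left.2 (hcon L hL)⟩
    obtain ⟨N, ⟨hN, hNbot, hNtop⟩, hmin⟩ := wellFounded_lt.has_min
      {N : Subgroup G | N.Normal ∧ N ≠ ⊥ ∧ N ≠ ⊤} ⟨L, hL, hLbot, hLtop⟩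
    haveI := hN
    have hNlt : Nat.card N < n := by
      rw [← hG]
      exact lt_of_le_of_ne (Subgroup.card_le_card_group N) fun e => hNtop (Subgroup.eq_top_of_card_eq N e)
    obtain ⟨S⟩ : Nonempty (Sylow p N) := inferInstance
    have hNs : Cfsg.IsPSolvable p N := by
      refine ih _ hNlt N rfl S (isCyclic_sylow_subgroup P hP N S) fun a b ha hb => ?_
      have h1 := hpair (a : G) (b : G) ((Subgroup.orderOf_coe a).trans ha)
        ((Subgroup.orderOf_coe b).trans hb)
      have e : (Subgroup.closure ({a, b} : Set N)).map N.subtype =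
          Subgroup.closure ({(a : G), (b : G)} : Set G) := by
        rw [MonoidHom.map_closure, Set.image_pair]; rfl
      exact H84.isPSolvable_of_surjective
        (((Subgroup.closure ({a, b} : Set N)).equivMapOfInjective N.subtype N.subtype_injective).trans
          (MulEquiv.subgroupCongr e)).symm.toMonoidHom (MulEquiv.surjective _) h1
    haveI : Nontrivial N := (Subgroup.nontrivial_iff_ne_bot N).2 hNbot
    have hcase : IsPGroup p N ∨ ¬ p ∣ Nat.card N := by
      have key : ∀ Q : Subgroup N, Q.Characteristic → Q ≠ ⊥ → Q = ⊤ := by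
        intro Q hQ hQb
        by_contra hQt
        haveI := hQ
        have hQN : Q.map N.subtype < N := lt_of_le_of_ne (Subgroup.map_subtype_le Q) fun e => hQt (by
          have := congrArg (Subgroup.comap N.subtype) e
          rwa [Subgroup.comap_map_eq_self_of_injective N.subtype_injective, ← Subgroup.subgroupOf,
            Subgroup.subgroupOf_self] at this)
        refine hmin _ ⟨inferInstance, fun e => hQb ?_, fun e => ?_⟩ hQN
        · exact (Subgroup.map_eq_bot_iff_of_injective _ N.subtype_injective).1 e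
        · rw [e] at hQN; exact not_top_lt hQN
      rcases H84.pCore_ne_bot_or_pPrimeCore_ne_bot hNs with hh | hh
      · have := key _ (H19.pCore_characteristic p N) hh
        exact Or.inl ((H19.pCore_isPGroup (G := N) p).of_equiv
          ((MulEquiv.subgroupCongr this).trans Subgroup.topEquiv))
      · have := key _ (H19.pPrimeCore_characteristic p N) hh
        have hc := H19.pPrimeCore_coprime (G := N) p
        rw [this, Subgroup.card_top] at hc
        exact Or.inr (hp.coprime_iff_not_dvd.1 hc.symm)
    rcases hcase with hNp | hNp'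
    · obtain ⟨j, hj⟩ := IsPGroup.iff_card.1 hNp
      have hpN : p ∣ Nat.card N := by
        rcases j with _ | j
        · rw [pow_zero] at hj
          exact absurd (Subgroup.card_eq_one.1 hj) hNbot
        · exact hj ▸ dvd_pow_self p (Nat.succ_ne_zero j)
      obtain ⟨⟨c, hcN⟩, hc⟩ := exists_prime_orderOf_dvd_card' p hpN
      have hc' : orderOf c = p := (Subgroup.orderOf_coe (⟨c, hcN⟩ : N)).trans hc
      refine isPSolvable_of_normal_prime P hP hc' ⟨fun z hz g => ?_⟩
      haveI := isCyclic_pSubgroup P hP hNp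
      obtain ⟨i, rfl⟩ := Subgroup.mem_zpowers_iff.1 hz
      have hmem : g * c * g⁻¹ ∈ N := hN.conj_mem c hcN g
      have h1 := mem_zpowers_of_pow_eq_one (p := p) (x := (⟨g * c * g⁻¹, hmem⟩ : N))
        (Subtype.ext (by simp [conj_pow, ← hc', pow_orderOf_eq_one])) hc
      obtain ⟨l, hl⟩ := Subgroup.mem_zpowers_iff.1 h1
      have hl' : c ^ l = g * c * g⁻¹ := by simpa using congrArg Subtype.val hl
      rw [← conj_zpow, ← hl', ← zpow_mul]
      exact Subgroup.zpow_mem_zpowers c _
    · refine isPSolvable_extend N (Or.inr hNp') ?_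
      have hQlt : Nat.card (G ⧸ N) < n := by
        have := Subgroup.card_eq_card_quotient_mul_card_subgroup N
        have h2 : 1 < Nat.card N := Finite.one_lt_card
        have h3 : 0 < Nat.card (G ⧸ N) := Nat.card_pos
        rw [← hG, this]
        exact lt_mul_of_one_lt_right h3 h2
      let T : Sylow p (G ⧸ N) := P.mapSurjective (QuotientGroup.mk'_surjective N)
      have hT : IsCyclic (T : Subgroup (G ⧸ N)) := by
        haveI := hP
        show IsCyclic ((P : Subgroup G).map (QuotientGroup.mk' N))
        exact isCyclic_of_surjective _ ((QuotientGroup.mk' N).subgroupMap_surjective _)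
      obtain ⟨j, -, hj⟩ := Nat.exists_mul_mod_eq_one_of_coprime
        (hp.coprime_iff_not_dvd.2 hNp').symm hp.one_lt
      have hlift : ∀ a : G ⧸ N, orderOf a = p → ∃ h : G, orderOf h = p ∧ (h : G ⧸ N) = a := by
        intro a ha
        obtain ⟨g, rfl⟩ := QuotientGroup.mk'_surjective N a
        have he : ((g ^ (Nat.card N * j) : G) : G ⧸ N) = QuotientGroup.mk' N g := by
          rw [QuotientGroup.mk_pow, ← QuotientGroup.mk'_apply, ← pow_mod_orderOf, ha, hj, pow_one]
        refine ⟨g ^ (Nat.card N * j), orderOf_eq_prime ?_ fun e => hp.ne_one ?_, he⟩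
        · have hgp : g ^ p ∈ N := by
            rw [← QuotientGroup.eq_one_iff, QuotientGroup.mk_pow, ← QuotientGroup.mk'_apply, ← ha,
              pow_orderOf_eq_one]
          have h1 : (g ^ p) ^ Nat.card N = 1 :=
            congrArg Subtype.val (pow_card_eq_one' (x := (⟨g ^ p, hgp⟩ : N)))
          rw [← pow_mul, mul_comm, pow_mul, pow_mul, h1, one_pow]
        · rw [← ha, ← he, e, QuotientGroup.mk_one, orderOf_one]
      refine ih _ hQlt _ rfl T hT fun a b ha hb => ?_
      obtain ⟨a', ha', rfl⟩ := hlift a ha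
      obtain ⟨b', hb', rfl⟩ := hlift b hb
      have e : (Subgroup.closure ({a', b'} : Set G)).map (QuotientGroup.mk' N) =
          Subgroup.closure ({(a' : G ⧸ N), (b' : G ⧸ N)} : Set (G ⧸ N)) := by
        rw [MonoidHom.map_closure, Set.image_pair]; rfl
      rw [← e]
      exact H84.isPSolvable_of_surjective _
        ((QuotientGroup.mk' N).subgroupMap_surjective _) (hpair a' b' ha' hb')

end Cfsg.Agent.H38.CP
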