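import Cfsg.Agent.H38.CyclicPairs.Block
import Cfsg.Agent.H44.Inflation
import Cfsg.Agent.H42.MaxIdeal

/-!
# Simple groups with cyclic Sylow subgroups have pairs generating non-`p`-solvable subgroups
-/

set_option autoImplicit false
set_option linter.unusedSectionVars false
set_option maxHeartbeats 600000

open scoped ComplexConjugate Classical

namespace Cfsg.Agent.H38.CP

open H28.Ab

variable {G : Type*} [Group G] [Fintype G] {p : ℕ} [Fact p.Prime] {P : Sylow p G} {m : ℕ}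
  {M : Ideal Cfsg.AlgInt}

/-- An integral value of a nontrivial character of a simple group off the identity is less than
the degree. -/
theorem lt_degree [IsSimpleGroup G] {χ : Cfsg.IrrCharacter G} (hχ : χ ≠ H26.oneIrr G) {g : G}
    (hg : g ≠ 1) {a : ℤ} (ha : χ.1 g = (a : ℂ)) : a < (Cfsg.charDegree (χ : G → ℂ) : ℤ) := by
  have hle := H44.norm_irr_le χ g
  rw [ha, Complex.norm_intCast] at hle
  have hle' : a ≤ (Cfsg.charDegree (χ : G → ℂ) : ℤ) := by
    exact_mod_cast (le_abs_self (a : ℝ)).trans hle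
  refine lt_of_le_of_ne hle' fun e => ?_
  have hk : g ∈ H44.kerOf χ := by
    rw [H44.mem_kerOf, ha, e, H42.irr_one_eq, Int.cast_natCast]
  rcases IsSimpleGroup.eq_bot_or_eq_top_of_normal _ (H44.kerOf_normal χ) with h | h
  · exact hg (Subgroup.mem_bot.1 (h ▸ hk))
  · have hconst : ∀ x, χ.1 x = χ.1 1 := fun x => H44.mem_kerOf.1 (h ▸ Subgroup.mem_top x)
    have h1 := H26.classInner_irr χ (H26.oneIrr G)
    rw [if_neg hχ, Cfsg.classInner] at h1
    simp only [H26.oneIrr_val, map_one, mul_one, hconst, Finset.sum_const, Finset.card_univ,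
      nsmul_eq_mul, ← Nat.card_eq_fintype_card] at h1
    rw [← mul_assoc, inv_mul_cancel₀ (Nat.cast_ne_zero.2 Nat.card_pos.ne'), one_mul] at h1
    exact H26.irr_one_ne_zero χ h1

/-- A cube over a larger number. -/
theorem cube_div_le {a : ℤ} {x : ℕ} {c : ℝ} (hx : 0 < x) (hc : 0 ≤ c)
    (h : 0 < a → (a : ℝ) ≤ c * x) : (a : ℝ) ^ 3 / x ≤ c * (a : ℝ) ^ 2 := by
  have hx' : (0 : ℝ) < x := by exact_mod_cast hx
  rw [div_le_iff₀ hx']
  rcases le_or_gt a 0 with ha | ha
  · have : (a : ℝ) ≤ 0 := by exact_mod_cast ha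
    nlinarith [sq_nonneg (a : ℝ), mul_nonneg (mul_nonneg hc hx'.le) (sq_nonneg (a : ℝ))]
  · nlinarith [h ha, sq_nonneg (a : ℝ)]

section

variable [IsSimpleGroup G] (hP : IsCyclic (P : Subgroup G))
  (hpair : ∀ a b : G, orderOf a = p → orderOf b = p →
    Cfsg.IsPSolvable p (Subgroup.closure ({a, b} : Set G)))
  (h : Ctx P m) (hM : Cfsg.IsPModular p M) {x : G} (hxP : x ∈ (P : Subgroup G))
  (hx : orderOf x = p) (hm2 : 2 ≤ m)

include hP hpair h hM hxP hx hm2

theorem caseB {r : ℕ} (E : Exc M P m r) (hm : m < p - 1) : False := by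
  have hp : p.Prime := Fact.out
  set q := Nat.card P with hq
  have hq1 : 1 < q := by have := E.card; have := E.two_le; nlinarith
  have hx1 : x ≠ 1 := fun e => hp.ne_one (by rw [← hx, e, orderOf_one])
  have e0 := Exc.eq_zero E h hM hP hpair hxP hx hm
  have e1 := Exc.eq_one E h hM hP hpair hxP hx
  rw [e0, mul_zero, zero_add, ← hq] at e1
  have hkey : (m : ℂ) * q * Exc.Xs E = (Exc.A E : ℂ) := by
    rw [sub_eq_zero.1 e0, ← mul_assoc, e1, one_mul]
  have hkey2 : ((m : ℝ) * q - ((q : ℝ) - 1) * (1 + Exc.S E)) = (Exc.A E : ℝ) := by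
    apply Complex.ofReal_injective
    push_cast
    rw [← hkey, Exc.Xs, ← hq]
    have : (m : ℂ) * q ≠ 0 := mul_ne_zero (Nat.cast_ne_zero.2 h.pos.ne')
      (Nat.cast_ne_zero.2 (by omega))
    rw [mul_sub, mul_one, mul_div_cancel₀ _ this]
  set X' := E.X.erase (H26.oneIrr G) with hX'
  have hA : (Exc.A E : ℝ) = 1 + ∑ χ ∈ X', (E.a χ : ℝ) ^ 2 := by
    rw [Exc.A, ← Finset.add_sum_erase _ _ E.one_mem, E.a_one]
    push_cast; simp [hX']
  have hAm : Exc.A E ≤ m := by
    have h1 := E.norm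
    have h2 : 0 ≤ (r : ℤ) * E.d ^ 2 - 2 * E.d * E.e := by
      have h3 : (2 : ℤ) * E.d ^ 2 ≤ r * E.d ^ 2 :=
        mul_le_mul_of_nonneg_right (by exact_mod_cast E.two_le) (sq_nonneg _)
      rcases E.e_unit with he | he <;> rw [he] <;>
        nlinarith [h3, Int.le_self_sq E.d, Int.le_self_sq (-E.d)]
    rw [Exc.A]; linarith
  have hAm' : (Exc.A E : ℝ) ≤ m := by exact_mod_cast hAm
  have hterm : ∀ χ ∈ X', (E.a χ : ℝ) ^ 3 / (Cfsg.charDegree (χ : G → ℂ) : ℝ) <
      (E.a χ : ℝ) ^ 2 := by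
    intro χ hχ
    obtain ⟨hne, hX⟩ := Finset.mem_erase.1 hχ
    have hlt := lt_degree hne hx1 (E.val_X χ hX ⟨x, hxP⟩ fun e => hx1 (congrArg Subtype.val e))
    have hpos : (0 : ℝ) < (Cfsg.charDegree (χ : G → ℂ) : ℝ) :=
      Nat.cast_pos.2 (H44.charDegree_pos χ)
    have hlt' : (E.a χ : ℝ) < (Cfsg.charDegree (χ : G → ℂ) : ℝ) := by exact_mod_cast hlt
    have ha2 : (0 : ℝ) < (E.a χ : ℝ) ^ 2 := by
      have : E.a χ ≠ 0 := E.a_ne χ hX
      positivity
    rw [div_lt_iff₀ hpos]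
    nlinarith
  have hq' : (1 : ℝ) < q := by exact_mod_cast hq1
  have hm' : (2 : ℝ) ≤ m := by exact_mod_cast hm2
  rcases X'.eq_empty_or_nonempty with hem | hne
  · have hS : Exc.S E = 0 := by rw [Exc.S, ← hX', hem, Finset.sum_empty]
    rw [hA, hem, Finset.sum_empty, hS] at hkey2
    nlinarith
  · have hS : Exc.S E < ∑ χ ∈ X', (E.a χ : ℝ) ^ 2 := Finset.sum_lt_sum_of_nonempty hne hterm
    nlinarith

theorem caseC {r : ℕ} (E : Exc M P m r) (hm : m = p - 1) (hqp : p < Nat.card P) : False := by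
  have hp : p.Prime := Fact.out
  set q := Nat.card P with hq
  have hx1 : x ≠ 1 := fun e => hp.ne_one (by rw [← hx, e, orderOf_one])
  set x' : ↥(P : Subgroup G) := ⟨x, hxP⟩ with hx'
  have hx'1 : x' ≠ 1 := fun e => hx1 (congrArg Subtype.val e)
  obtain ⟨k, hk⟩ := IsPGroup.iff_card.1 P.2
  have hk2 : 2 ≤ k := by
    by_contra hk'
    have : Nat.card P ≤ p := by
      rw [hk]; calc p ^ k ≤ p ^ 1 := Nat.pow_le_pow_right hp.pos (by omega)
        _ = p := pow_one p
    omega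
  have hq2 : p * p ≤ q := by
    rw [hq, hk, ← sq]; exact Nat.pow_le_pow_right hp.pos hk2
  have hmp : m + 1 = p := by have := hp.two_le; omega
  have hr : m + 2 ≤ r := by
    have := E.card
    by_contra hr'
    nlinarith [Nat.lt_succ_iff.1 (Nat.lt_of_not_le hr')]
  have hA1 : 1 ≤ Exc.A E := by
    rw [Exc.A, ← Finset.add_sum_erase _ _ E.one_mem, E.a_one]
    have : 0 ≤ ∑ χ ∈ E.X.erase (H26.oneIrr G), E.a χ ^ 2 :=
      Finset.sum_nonneg fun _ _ => sq_nonneg _
    linarith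
  have hd : E.d = 0 := by
    by_contra hd
    have h1 := E.norm
    have h2 : (1 : ℤ) ≤ E.d ^ 2 := by
      have := Int.one_le_abs hd
      nlinarith [sq_abs E.d]
    have h3 : ((m : ℤ) + 2) * E.d ^ 2 ≤ r * E.d ^ 2 :=
      mul_le_mul_of_nonneg_right (by exact_mod_cast hr) (sq_nonneg _)
    have h4 : (m : ℤ) * 1 ≤ m * E.d ^ 2 := mul_le_mul_of_nonneg_left h2 (by positivity)
    rw [Exc.A] at hA1
    rcases E.e_unit with he | he <;> rw [he] at h1 <;>
      nlinarith [h3, h4, Int.le_self_sq E.d, Int.le_self_sq (-E.d)]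
  have hA : Exc.A E = m := by
    have h1 := E.norm
    rw [hd] at h1
    rw [Exc.A]; linarith
  set i₀ : Fin r := ⟨0, Nat.lt_of_lt_of_le two_pos E.two_le⟩ with hi₀
  set z := Cfsg.charDegree (E.mu i₀ : G → ℂ) with hz
  have hzpos : 0 < z := H44.charDegree_pos _
  have hz' : (0 : ℝ) < z := by exact_mod_cast hzpos
  set X' := E.X.erase (H26.oneIrr G) with hX'
  have hA' : ∑ χ ∈ X', (E.a χ : ℝ) ^ 2 = (m : ℝ) - 1 := by
    have : (Exc.A E : ℝ) = (m : ℝ) := by exact_mod_cast hA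
    rw [← this, Exc.A, ← Finset.add_sum_erase _ _ E.one_mem, E.a_one]
    push_cast; ring
  have hmR : (2 : ℝ) ≤ m := by exact_mod_cast hm2
  have hqR : ((m : ℝ) + 1) * (m + 1) ≤ q := by
    rw [← hmp] at hq2; exact_mod_cast hq2
  have hbound : ∀ χ ∈ X', |(E.a χ : ℝ)| ≤ (m : ℝ) - 1 := by
    intro χ hχ
    rw [← hA']
    refine le_trans ?_ (Finset.single_le_sum (fun c _ => sq_nonneg _) hχ)
    have : (1 : ℝ) ≤ |(E.a χ : ℝ)| := by
      exact_mod_cast Int.one_le_abs (E.a_ne χ (Finset.mem_erase.1 hχ).2)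
    nlinarith [sq_abs (E.a χ : ℝ)]
  have hdeg : ∀ χ ∈ X', (q : ℝ) + E.a χ ≤ (Cfsg.charDegree (χ : G → ℂ) : ℝ) := by
    intro χ hχ
    obtain ⟨hne, hX⟩ := Finset.mem_erase.1 hχ
    have hlt := lt_degree hne hx1 (E.val_X χ hX x' hx'1)
    have := Int.le_of_dvd (by omega) (E.degree_congr hX)
    have : (q : ℤ) + E.a χ ≤ (Cfsg.charDegree (χ : G → ℂ) : ℤ) := by rw [hq]; omega
    exact_mod_cast this
  have hzc : (q : ℤ) ∣ (z : ℤ) - (m : ℤ) * E.e := Exc.degree_congr_mu E h hd i₀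
  rcases E.e_unit with he | he
  · -- the sign is positive
    have e1 := Exc.eq_one E h hM hP hpair hxP hx
    rw [hA, ← hq, show (p : ℂ) - 1 = (m : ℂ) by rw [← hmp]; push_cast; ring] at e1
    have e2 : (m : ℝ) * (1 - ((q : ℝ) - 1) * (1 + Exc.S E) / ((m : ℝ) * q)) +
        m * ((q : ℝ) - m) / (q * z) = 1 := by
      apply Complex.ofReal_injective
      push_cast
      refine Eq.trans ?_ e1
      rw [Exc.Xs, Exc.cmu, ← hi₀, ← hz, ← hq, hd, he]
      push_cast; ring
    have hqpos : (0 : ℝ) < q := by nlinarith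
    have hpos : 0 < (m : ℝ) * ((q : ℝ) - m) / (q * z) :=
      div_pos (mul_pos (by linarith) (by nlinarith)) (mul_pos hqpos hz')
    have e3 : (m : ℝ) * q - ((q : ℝ) - 1) * (1 + Exc.S E) < q := by
      have hlt : (m : ℝ) * (1 - ((q : ℝ) - 1) * (1 + Exc.S E) / ((m : ℝ) * q)) < 1 := by linarith
      have : (m : ℝ) * (1 - ((q : ℝ) - 1) * (1 + Exc.S E) / ((m : ℝ) * q)) * q =
          (m : ℝ) * q - ((q : ℝ) - 1) * (1 + Exc.S E) := by
        field_simp
      nlinarith
    have hS : Exc.S E ≤ ((m : ℝ) - 1) / q * ((m : ℝ) - 1) := by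
      have e : ((m : ℝ) - 1) / q * ((m : ℝ) - 1) =
          ∑ χ ∈ X', ((m : ℝ) - 1) / q * (E.a χ : ℝ) ^ 2 := by rw [← Finset.mul_sum, hA']
      rw [e, Exc.S, ← hX']
      refine Finset.sum_le_sum fun χ hχ => ?_
      refine cube_div_le (H44.charDegree_pos χ) (div_nonneg (by linarith) hqpos.le) fun ha => ?_
      have h1 := hdeg χ hχ
      have h2 := hbound χ hχ
      have ha' : (1 : ℝ) ≤ (E.a χ : ℝ) := by exact_mod_cast ha
      rw [abs_of_pos (by linarith)] at h2
      rw [div_mul_eq_mul_div, le_div_iff₀ hqpos]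
      nlinarith
    rw [div_mul_eq_mul_div, le_div_iff₀ hqpos] at hS
    have hq1 : (1 : ℝ) < q := by nlinarith
    rcases le_or_gt (Exc.S E) 0 with hS0 | hS0
    · nlinarith [mul_nonpos_of_nonneg_of_nonpos (by linarith : (0 : ℝ) ≤ (q : ℝ) - 1) hS0,
        mul_nonneg hqpos.le (by linarith : (0 : ℝ) ≤ (m : ℝ) - 2)]
    rcases eq_or_lt_of_le hm2 with h2 | h3
    · have hm' : (m : ℝ) = 2 := by exact_mod_cast h2.symm
      rw [hm'] at hS
      nlinarith
    · have h3' : (3 : ℝ) ≤ m := by exact_mod_cast h3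
      nlinarith [mul_le_mul_of_nonneg_left h3' hqpos.le]
  · -- the sign is negative: use an element of order `p²`
    obtain ⟨u, hu⟩ : ∃ u : ↥(P : Subgroup G), orderOf (u : G) = p ^ 2 := by
      haveI := hP
      obtain ⟨g, hg⟩ := IsCyclic.exists_generator (α := ↥(P : Subgroup G))
      have hgo : orderOf g = p ^ k := by rw [orderOf_eq_card_of_forall_mem_zpowers hg, ← hk]
      refine ⟨g ^ p ^ (k - 2), ?_⟩
      rw [Subgroup.orderOf_coe, orderOf_pow' _ (pow_ne_zero _ hp.ne_zero), hgo,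
        Nat.gcd_eq_right (pow_dvd_pow p (Nat.sub_le k 2)), Nat.pow_div (Nat.sub_le k 2) hp.pos]
      congr 1; omega
    have hu1 : u ≠ 1 := fun e => by
      rw [e, OneMemClass.coe_one, orderOf_one] at hu
      exact (Nat.one_lt_pow two_ne_zero hp.one_lt).ne hu
    have hnc : ¬ IsConj x (u : G) := fun hc => by
      have := orderOf_of_isConj hc
      rw [hu, hx, sq] at this
      exact absurd this (ne_of_gt (lt_mul_self hp.one_lt))
    have hsum := sum_sq_section hP hpair h hM hx hu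
    rw [E.sum_block, ← Finset.add_sum_erase _ _ E.one_mem] at hsum
    have hX : ∀ χ ∈ X', χ.1 x * χ.1 x * conj (χ.1 (u : G)) / χ.1 1 =
        (((E.a χ : ℝ) ^ 3 / (Cfsg.charDegree (χ : G → ℂ) : ℝ) : ℝ) : ℂ) := by
      intro χ hχ
      rw [show χ.1 x = (E.a χ : ℂ) from E.val_X χ (Finset.mem_erase.1 hχ).2 x' hx'1,
        E.val_X χ (Finset.mem_erase.1 hχ).2 u hu1, map_intCast, H42.irr_one_eq]
      push_cast; ring
    have hfull := card_conj_pow h hP hxP hx
    have hall : ∀ i ∈ Finset.Ico 1 p, IsConj x (x ^ i) := by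
      have := Finset.eq_of_subset_of_card_le (Finset.filter_subset (fun i => IsConj x (x ^ i)) (Finset.Ico 1 p))
        (by rw [hfull, Nat.card_Ico]; omega)
      intro i hi
      rw [← this] at hi
      exact (Finset.mem_filter.1 hi).2
    have hinj : Set.InjOn (fun i => x' ^ i) ↑(Finset.Ico 1 p) := fun i hi j hj e => by
      simp only [Finset.coe_Ico, Set.mem_Ico] at hi hj
      exact pow_injOn_Iio_orderOf (x := x) (by rw [hx]; exact hi.2) (by rw [hx]; exact hj.2)
        (congrArg Subtype.val e)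
    set C := (Finset.Ico 1 p).image (fun i => x' ^ i) with hC
    have hCconj : ∀ w : ↥(P : Subgroup G), w ∈ C ↔ IsConj x (w : G) := by
      have hsub : C ⊆ Finset.univ.filter fun w : ↥(P : Subgroup G) => IsConj x (w : G) := by
        intro w hw
        obtain ⟨i, hi, rfl⟩ := Finset.mem_image.1 hw
        simpa [hx'] using hall i hi
      have := Finset.eq_of_subset_of_card_le hsub (by
        rw [← Fintype.card_subtype, ← Nat.card_eq_fintype_card, hC,
          Finset.card_image_of_injOn hinj, Nat.card_Ico]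
        exact le_of_eq ((h.card_conj hx'1).trans hm))
      intro w
      rw [this]; simp
    have hpsi : ∀ i, psi P (E.R.rep i) x' * psi P (E.R.rep i) x' =
        ((m : ℂ) - 1) * psi P (E.R.rep i) x' + m := by
      intro i
      rw [h.psi_eq_sum_conj (E.R.ne_one i) hx'1 hCconj, hC, Finset.sum_image hinj]
      simp only [map_pow, Units.val_pow_eq_pow_val]
      set ζ : ℂ := ((E.R.rep i x' : ℂˣ) : ℂ) with hζ
      have hζp : ζ ^ p = 1 := by
        rw [hζ, ← Units.val_pow_eq_pow_val, ← map_pow, show x' ^ p = 1 from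
          Subtype.ext (by simp [hx', ← hx, pow_orderOf_eq_one]), map_one, Units.val_one]
      have hsplit : ∑ j ∈ Finset.Ico 1 p, ζ ^ j = ∑ j ∈ Finset.range p, ζ ^ j - 1 := by
        rw [Finset.range_eq_Ico, Finset.sum_eq_sum_Ico_succ_bot hp.pos, pow_zero]; ring
      rcases eq_or_ne ζ 1 with h1 | h1
      · simp only [h1, one_pow, Finset.sum_const, Nat.card_Ico, nsmul_eq_mul, mul_one, ← hm]
        ring
      · rw [hsplit, geom_sum_eq h1, hζp, sub_self, zero_div]
        ring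
    have hmux : ∀ i, (E.mu i).1 x * (E.mu i).1 x * conj ((E.mu i).1 (u : G)) =
        -((m : ℂ) - 1) * ((E.mu i).1 x * conj ((E.mu i).1 (u : G))) +
          (m : ℂ) * conj ((E.mu i).1 (u : G)) := by
      intro i
      rw [show (E.mu i).1 x = _ from E.val_mu i x' hx'1, hd, he]
      push_cast
      linear_combination conj ((E.mu i).1 (u : G)) * hpsi i
    have hs1 : ∑ i, (E.mu i).1 x * conj ((E.mu i).1 (u : G)) = -(m : ℂ) := by
      have := Exc.sum_mu_mul E h hM x' ⟨(u : G)⁻¹, inv_mem u.2⟩ hx'1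
        (fun e => hu1 (Subtype.ext (inv_eq_one.1 (congrArg Subtype.val e))))
      simp only [inv_inv, hx', if_neg hnc, zero_sub, H26.irr_inv, hA, Int.cast_natCast] at this
      exact this
    have hs2 : ∑ i, conj ((E.mu i).1 (u : G)) = 1 := by
      rw [← map_sum, Finset.sum_congr rfl fun i _ => E.val_mu i u hu1, Finset.sum_add_distrib,
        Finset.sum_const, ← Finset.mul_sum, h.sum_reps_psi E.R hu1, hd, he]
      simp
    have hmu : ∑ i, (E.mu i).1 x * (E.mu i).1 x * conj ((E.mu i).1 (u : G)) / (E.mu i).1 1 =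
        (((m : ℝ) ^ 2 / z : ℝ) : ℂ) := by
      rw [Finset.sum_congr rfl fun i _ => by rw [Exc.deg_mu E i i₀, H42.irr_one_eq],
        ← Finset.sum_div, Finset.sum_congr rfl fun i _ => hmux i, Finset.sum_add_distrib,
        ← Finset.mul_sum, ← Finset.mul_sum, hs1, hs2]
      push_cast; rw [← hz]; ring
    rw [Finset.sum_congr rfl hX, hmu, H26.oneIrr_val, H26.oneIrr_val, H26.oneIrr_val] at hsum
    have hreal : (1 : ℝ) + Exc.S E + (m : ℝ) ^ 2 / z = 0 := by
      apply Complex.ofReal_injective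
      rw [Exc.S, ← hX']
      push_cast at hsum ⊢
      simp only [map_one, mul_one, div_one] at hsum
      exact hsum
    set D : ℝ := (q : ℝ) - m + 1 with hD
    have hDpos : 0 < D := by rw [hD]; nlinarith
    have hS : -(((m : ℝ) - 1) / D * ((m : ℝ) - 1)) ≤ Exc.S E := by
      have e : -(((m : ℝ) - 1) / D * ((m : ℝ) - 1)) =
          ∑ χ ∈ X', -(((m : ℝ) - 1) / D * (E.a χ : ℝ) ^ 2) := by
        rw [Finset.sum_neg_distrib, ← Finset.mul_sum, hA']
      rw [e, Exc.S, ← hX']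
      refine Finset.sum_le_sum fun χ hχ => ?_
      have h1 := hdeg χ hχ
      have h2 := hbound χ hχ
      have hpos : (0 : ℝ) < (Cfsg.charDegree (χ : G → ℂ) : ℝ) :=
        Nat.cast_pos.2 (H44.charDegree_pos χ)
      have h3 := neg_abs_le (E.a χ : ℝ)
      rw [le_div_iff₀ hpos]
      rw [show -(((m : ℝ) - 1) / D * (E.a χ : ℝ) ^ 2) * (Cfsg.charDegree (χ : G → ℂ) : ℝ) =
        -((E.a χ : ℝ) ^ 2 * (((m : ℝ) - 1) * ((Cfsg.charDegree (χ : G → ℂ) : ℝ) / D))) by ring]
      have h4 : 1 ≤ (Cfsg.charDegree (χ : G → ℂ) : ℝ) / D := by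
        rw [le_div_iff₀ hDpos, hD]; linarith
      nlinarith [sq_nonneg (E.a χ : ℝ), mul_le_mul_of_nonneg_left h4 (by linarith : (0 : ℝ) ≤ (m : ℝ) - 1)]
    have hlt : ((m : ℝ) - 1) / D * ((m : ℝ) - 1) < 1 := by
      rw [div_mul_eq_mul_div, div_lt_one hDpos, hD]; nlinarith
    have : 0 ≤ (m : ℝ) ^ 2 / z := by positivity
    linarith

theorem caseD (hm : m = p - 1) (hqp : Nat.card P = p) : False := by
  have hp : p.Prime := Fact.out
  haveI := hP
  haveI := hM.2.1
  haveI : IsMulCommutative (P : Subgroup G) := h.comm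
  have hmp : m + 1 = p := by have := hp.two_le; omega
  have hx1 : x ≠ 1 := fun e => hp.ne_one (by rw [← hx, e, orderOf_one])
  set x' : ↥(P : Subgroup G) := ⟨x, hxP⟩ with hx'
  have hx'1 : x' ≠ 1 := fun e => hx1 (congrArg Subtype.val e)
  set B := Finset.univ.filter (· ∈ Cfsg.principalBlock M G) with hB
  have hconj : ∀ y : ↥(P : Subgroup G), y ≠ 1 → IsConj x (y : G) := by
    have := Finset.eq_of_subset_of_card_le
      (Finset.subset_univ (insert (1 : ↥(P : Subgroup G))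
        (Finset.univ.filter fun w : ↥(P : Subgroup G) => IsConj x (w : G)))) (by
      have hn : (1 : ↥(P : Subgroup G)) ∉
          Finset.univ.filter fun w : ↥(P : Subgroup G) => IsConj x (w : G) := fun hh =>
        hx1 (isConj_one_left.1
          (show IsConj x ((1 : ↥(P : Subgroup G)) : G) from (Finset.mem_filter.1 hh).2))
      rw [Finset.card_insert_of_notMem hn,
        ← Fintype.card_subtype, ← Nat.card_eq_fintype_card, h.card_conj hx'1, Finset.card_univ,
        ← Nat.card_eq_fintype_card, hqp, hmp])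
    intro y hy
    have hy' := this ▸ Finset.mem_univ y
    exact (Finset.mem_filter.1 ((Finset.mem_insert.1 hy').resolve_left hy)).2
  have hval : ∀ χ : Cfsg.IrrCharacter G, ∀ y : ↥(P : Subgroup G), y ≠ 1 → χ.1 (y : G) = χ.1 x :=
    fun χ y hy => (H26.irr_eq_of_isConj χ (hconj y hy)).symm
  have hint : ∀ χ : Cfsg.IrrCharacter G, ∃ a : ℤ, χ.1 x = (a : ℂ) ∧
      (p : ℤ) ∣ (Cfsg.charDegree (χ : G → ℂ) : ℤ) - a := by
    intro χ
    haveI := Fintype.ofFinite ↥(P : Subgroup G)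
    obtain ⟨ψ, hψ⟩ := H27.exists_linear_ne_one (C := ↥(P : Subgroup G)) hx'1
    have hψ1 : ψ ≠ 1 := fun e => hψ (by rw [e]; rfl)
    obtain ⟨z1, hz1⟩ := exists_int_coeff (res_gen (P := P) χ) 1
    obtain ⟨z2, hz2⟩ := exists_int_coeff (res_gen (P := P) χ) ψ
    have hq0 : (Nat.card P : ℂ) ≠ 0 := Nat.cast_ne_zero.2 Nat.card_pos.ne'
    rw [inv_mul_eq_iff_eq_mul₀ hq0,
      ← Finset.add_sum_erase _ _ (Finset.mem_univ (1 : ↥(P : Subgroup G))),
      Finset.sum_congr rfl fun y hy => by rw [res, hval χ y (Finset.mem_erase.1 hy).1],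
      ← Finset.mul_sum] at hz1 hz2
    rw [← map_sum, Finset.sum_erase_eq_sub (Finset.mem_univ _)] at hz2
    rw [H27.sum_apply_linear hψ1] at hz2
    simp only [res, OneMemClass.coe_one, H42.irr_one_eq, MonoidHom.one_apply, map_one,
      Units.val_one, mul_one, zero_sub, map_neg, Finset.sum_const,
      Finset.card_erase_of_mem (Finset.mem_univ _), Finset.card_univ, ← Nat.card_eq_fintype_card,
      nsmul_eq_mul, Nat.cast_sub Nat.card_pos, Nat.cast_one] at hz1 hz2
    refine ⟨z1 - z2, mul_left_cancel₀ hq0 ?_, ⟨z2, Int.cast_injective (α := ℂ) ?_⟩⟩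
    · push_cast
      linear_combination hz1 - hz2
    · have e : χ.1 x = ((z1 - z2 : ℤ) : ℂ) := mul_left_cancel₀ hq0 (by
        push_cast
        linear_combination hz1 - hz2)
      rw [hqp] at hz2
      rw [e] at hz2
      push_cast at hz2 ⊢
      linear_combination hz2
  choose a ha hcong using hint
  have hone : H26.oneIrr G ∈ B :=
    Finset.mem_filter.2 ⟨Finset.mem_univ _, H41.mem_blockOf_self (H26.oneIrr G)⟩
  have ha1 : a (H26.oneIrr G) = 1 := by
    have := ha (H26.oneIrr G)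
    rw [H26.oneIrr_val] at this
    exact_mod_cast this.symm
  set X' := B.erase (H26.oneIrr G) with hX'
  have hA' : ∑ χ ∈ X', (a χ : ℝ) ^ 2 = (p : ℝ) - 1 := by
    have e := h.block_norm hM hx'1
    rw [← hB, ← Finset.add_sum_erase _ _ hone, ← hX', hqp,
      Finset.sum_congr rfl fun χ _ => by rw [hx', ha χ, map_intCast]] at e
    rw [show ((H26.oneIrr G).1 (x' : G)) = 1 from H26.oneIrr_val _, map_one, mul_one] at e
    apply Complex.ofReal_injective
    push_cast
    rw [← e, add_sub_cancel_left]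
    exact Finset.sum_congr rfl fun χ _ => by ring
  have hortho : 1 + ∑ χ ∈ X', (a χ : ℝ) * (Cfsg.charDegree (χ : G → ℂ) : ℝ) = 0 := by
    have e := H40.sum_block_mul_conj_eq_zero hM (H41.isPBlock_principalBlock (G := G) (M := M))
      (x := 1) (y := x) (by simpa using hp.ne_one) (by rw [hx])
    rw [← hB, ← Finset.add_sum_erase _ _ hone, ← hX', H26.oneIrr_val, H26.oneIrr_val, map_one,
      mul_one] at e
    apply Complex.ofReal_injective
    push_cast
    rw [← e]
    congr 1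
    exact Finset.sum_congr rfl fun χ _ => by rw [ha χ, map_intCast, H42.irr_one_eq, mul_comm]
  set S : ℝ := ∑ χ ∈ X', (a χ : ℝ) ^ 3 / (Cfsg.charDegree (χ : G → ℂ) : ℝ) with hS
  have hR : ∀ χ ∈ B, Cfsg.classInner (reg p) χ.1 =
      (if χ = H26.oneIrr G then 1 else 0) - (a χ : ℂ) / p := by
    intro χ hχ
    rw [classInner_reg_mem h hM (Finset.mem_filter.1 hχ).2,
      Finset.sum_congr rfl fun y hy => by
        rw [hval χ y (Finset.mem_erase.1 hy).1, ha χ, map_intCast],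
      Finset.sum_const, Finset.card_erase_of_mem (Finset.mem_univ _), Finset.card_univ,
      ← Nat.card_eq_fintype_card, nsmul_eq_mul, hqp, ← hm]
    have : (m : ℂ) ≠ 0 := Nat.cast_ne_zero.2 (by omega)
    have : (p : ℂ) ≠ 0 := Nat.cast_ne_zero.2 hp.ne_zero
    field_simp
  have hT : ∀ i ∈ Finset.Ico 1 p, T M p (x ^ i) x⁻¹ = ((1 - (1 + S) / p : ℝ) : ℂ) := by
    intro i hi
    obtain ⟨hi1, hi2⟩ := Finset.mem_Ico.1 hi
    have hne : (⟨x ^ i, pow_mem hxP i⟩ : ↥(P : Subgroup G)) ≠ 1 :=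
      fun e => pow_ne_one_of_lt_orderOf (x := x) (n := i) (by omega) (by omega)
        (congrArg Subtype.val e)
    have hne' : (⟨x⁻¹, inv_mem hxP⟩ : ↥(P : Subgroup G)) ≠ 1 :=
      fun e => hx1 (inv_eq_one.1 (congrArg Subtype.val e))
    have hv : ∀ χ : Cfsg.IrrCharacter G, χ.1 (x ^ i) = (a χ : ℂ) ∧ χ.1 x⁻¹ = (a χ : ℂ) :=
      fun χ => ⟨(hval χ _ hne).trans (ha χ), (hval χ _ hne').trans (ha χ)⟩
    rw [T, ← hB, ← Finset.add_sum_erase _ _ hone, ← hX', hR _ hone, if_pos rfl, ha1,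
      H26.oneIrr_val, H26.oneIrr_val, H26.oneIrr_val, hS]
    have : ∀ χ ∈ X', Cfsg.classInner (reg p) χ.1 * (χ.1 (x ^ i) * χ.1 x⁻¹ / χ.1 1) =
        -(p : ℂ)⁻¹ *
          (((a χ : ℝ) ^ 3 / (Cfsg.charDegree (χ : G → ℂ) : ℝ) : ℝ) : ℂ) := by
      intro χ hχ
      obtain ⟨hne, hχB⟩ := Finset.mem_erase.1 hχ
      rw [hR χ hχB, if_neg hne, (hv χ).1, (hv χ).2, H42.irr_one_eq]
      push_cast; ring
    rw [Finset.sum_congr rfl this, ← Finset.mul_sum]
    push_cast; ring
  have hE : ((p : ℝ) - 1) * (1 - (1 + S) / p) = 1 := by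
    apply Complex.ofReal_injective
    have := sum_T hP hpair h hM hx
    rw [Finset.sum_congr rfl hT, Finset.sum_const, Nat.card_Ico, nsmul_eq_mul,
      Nat.cast_sub hp.one_lt.le] at this
    push_cast at this ⊢
    exact this
  have hp3 : 3 ≤ p := by omega
  have hpR : (3 : ℝ) ≤ p := by exact_mod_cast hp3
  have hE' : ((p : ℝ) - 1) * ((p : ℝ) - 1 - S) = p := by
    field_simp at hE
    linarith
  have hterm : ∀ χ ∈ X', 0 < a χ → (a χ : ℝ) + p ≤ (Cfsg.charDegree (χ : G → ℂ) : ℝ) ∧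
      (a χ : ℝ) ^ 2 ≤ (p : ℝ) - 1 := by
    intro χ hχ hpos
    refine ⟨?_, hA' ▸ Finset.single_le_sum (fun c _ => sq_nonneg (a c : ℝ)) hχ⟩
    have hlt := lt_degree (Finset.mem_erase.1 hχ).1 hx1 (ha χ)
    have := Int.le_of_dvd (by omega) (hcong χ)
    have : a χ + (p : ℤ) ≤ (Cfsg.charDegree (χ : G → ℂ) : ℤ) := by omega
    exact_mod_cast this
  by_cases hp3' : p = 3
  · obtain ⟨c, hc, hneg⟩ : ∃ c ∈ X', a c < 0 := by
      by_contra hcon
      push Not at hcon
      have : 0 ≤ ∑ χ ∈ X', (a χ : ℝ) * (Cfsg.charDegree (χ : G → ℂ) : ℝ) :=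
        Finset.sum_nonneg fun χ hχ => mul_nonneg (by exact_mod_cast hcon χ hχ) (Nat.cast_nonneg _)
      linarith
    have hall : ∀ χ ∈ X', (a χ : ℝ) ^ 3 / (Cfsg.charDegree (χ : G → ℂ) : ℝ) ≤
        1 / 4 * (a χ : ℝ) ^ 2 := by
      intro χ hχ
      refine cube_div_le (H44.charDegree_pos χ) (by norm_num) fun hpos => ?_
      obtain ⟨h1, h2⟩ := hterm χ hχ hpos
      have h3 : (1 : ℝ) ≤ a χ := by exact_mod_cast hpos
      have h4 : a χ ≤ 1 := by
        by_contra h5
        have : (2 : ℝ) ≤ a χ := by exact_mod_cast (not_le.1 h5 : (1 : ℤ) < a χ)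
        rw [hp3'] at h2; norm_num at h2; nlinarith
      have : (a χ : ℝ) ≤ 1 := by exact_mod_cast h4
      rw [hp3'] at h1; push_cast at h1; linarith
    have hlast : (a c : ℝ) ^ 3 / (Cfsg.charDegree (c : G → ℂ) : ℝ) ≤
        1 / 4 * (a c : ℝ) ^ 2 - 1 / 4 := by
      have h1 : (a c : ℝ) ≤ -1 := by
        have : a c ≤ -1 := by omega
        exact_mod_cast this
      have : (a c : ℝ) ^ 3 / (Cfsg.charDegree (c : G → ℂ) : ℝ) ≤ 0 :=
        div_nonpos_of_nonpos_of_nonneg (by nlinarith [sq_nonneg (a c : ℝ)]) (Nat.cast_nonneg _)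
      nlinarith
    have hSle : S ≤ ((p : ℝ) - 1) / 4 - 1 / 4 := by
      rw [hS, ← Finset.add_sum_erase _ _ hc, ← hA', ← Finset.add_sum_erase X' _ hc]
      have := Finset.sum_le_sum (s := X'.erase c) fun χ hχ => hall χ (Finset.mem_of_mem_erase hχ)
      rw [← Finset.mul_sum] at this
      linarith
    rw [hp3'] at hE' hSle
    norm_num at hE' hSle
    linarith
  · have h5 : 5 ≤ p := by
      have : p ≠ 4 := fun e => by rw [e] at hp; norm_num at hp
      omega
    have h5R : (5 : ℝ) ≤ p := by exact_mod_cast h5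
    have hSle : S ≤ 1 / 2 * ((p : ℝ) - 1) := by
      rw [hS, ← hA', Finset.mul_sum]
      refine Finset.sum_le_sum fun χ hχ => cube_div_le (H44.charDegree_pos χ) (by norm_num) fun hpos => ?_
      obtain ⟨h1, h2⟩ := hterm χ hχ hpos
      have h3 : (1 : ℝ) ≤ a χ := by exact_mod_cast hpos
      nlinarith
    nlinarith

end

/-- No simple group with cyclic Sylow subgroup and nontrivial automiser satisfies the hypothesis. -/
theorem simple_false [IsSimpleGroup G] (hP : IsCyclic (P : Subgroup G))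
    (hpair : ∀ a b : G, orderOf a = p → orderOf b = p →
      Cfsg.IsPSolvable p (Subgroup.closure ({a, b} : Set G)))
    (h : Ctx P m) (hM : Cfsg.IsPModular p M) (hm2 : 2 ≤ m) (hdvd : p ∣ Nat.card G) : False := by
  have hp : p.Prime := Fact.out
  obtain ⟨y, hy⟩ := exists_prime_orderOf_dvd_card' p (P.dvd_card_of_dvd_card hdvd)
  have hx : orderOf (y : G) = p := by rw [Subgroup.orderOf_coe, hy]
  have hle : m ≤ p - 1 := by
    rw [← card_conj_pow h hP y.2 hx, ← Nat.card_Ico]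
    exact Finset.card_filter_le _ _
  have hpq : p ≤ Nat.card P :=
    Nat.le_of_dvd Nat.card_pos (P.dvd_card_of_dvd_card hdvd)
  rcases lt_or_eq_of_le hle with hlt | heq
  · obtain ⟨r, ⟨E⟩⟩ := h.exists_exc hM (by omega)
    exact caseB hP hpair h hM y.2 hx hm2 E hlt
  · rcases lt_or_eq_of_le hpq with hlt | hq
    · obtain ⟨r, ⟨E⟩⟩ := h.exists_exc hM (by omega)
      exact caseC hP hpair h hM y.2 hx hm2 E heq hlt
    · exact caseD hP hpair h hM y.2 hx hm2 heq hq.symm

end Cfsg.Agent.H38.CP
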