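import Cfsg.Agent.H38.CyclicPairs.PairLocal
import Cfsg.Agent.H38.ClassCoeff
import Cfsg.Agent.H28.AbelianExceptional

/-!
# Character sums for products of two elements of order `p`
-/

set_option autoImplicit false
set_option linter.unusedSectionVars false

open scoped ComplexConjugate Classical

namespace Cfsg.Agent.H38.CP

open H28.Ab

variable {G : Type*} [Group G] [Fintype G] {p : ℕ} [Fact p.Prime] {P : Sylow p G} {m : ℕ}
  {M : Ideal Cfsg.AlgInt}

/-- Orders are class invariant. -/
theorem orderOf_of_isConj {a b : G} (h : IsConj a b) : orderOf b = orderOf a := by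
  obtain ⟨c, rfl⟩ := isConj_iff.1 h
  exact (MulAut.conj c).orderOf_eq a

/-- The indicator of the regular elements. -/
noncomputable def reg (p : ℕ) (g : G) : ℂ := if p ∣ orderOf g then 0 else 1

theorem reg_classFun : Cfsg.IsClassFunction G (reg p) := by
  intro g c
  simp only [reg, show orderOf (c * g * c⁻¹) = orderOf g from (MulAut.conj c).orderOf_eq g]

/-- The function on `P` whose lift is the indicator of the singular elements. -/
noncomputable def punct (P : Sylow p G) (y : ↥(P : Subgroup G)) : ℂ := if y = 1 then 0 else 1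

theorem punct_inv : Inv P (punct P) := by
  intro n _ w w' e
  have : w' = 1 ↔ w = 1 := by
    constructor
    · intro h
      subst h
      refine Subtype.ext ?_
      simpa [eq_comm (a := (1 : G))] using e
    · intro h
      subst h
      exact Subtype.ext (by simpa using e)
  simp only [punct, this]

theorem reg_eq (h : Ctx P m) (g : G) : reg p g = 1 - lift P (punct P) g := by
  obtain ⟨y, x, hx, hxy⟩ := exists_rep P g
  rw [reg]
  by_cases hg : p ∣ orderOf g
  · rw [if_pos hg, h.lift_eq punct_inv hx hxy, punct, if_neg, sub_self]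
    intro e
    subst e
    exact (H40.regular_iff_pPart_eq_one hx).2 (by simpa using hxy) hg
  · rw [if_neg hg, h.lift_regular punct_inv hg, punct, if_pos rfl, sub_zero]

theorem classInner_reg_eq (h : Ctx P m) (χ : Cfsg.IrrCharacter G) :
    Cfsg.classInner (reg p) χ.1 =
      (if χ = H26.oneIrr G then 1 else 0) - Cfsg.classInner (lift P (punct P)) χ.1 := by
  have e : (reg p : G → ℂ) = (H26.oneIrr G).1 - lift P (punct P) := funext fun g => by
    rw [Pi.sub_apply, H26.oneIrr_val, reg_eq h]
  rw [e, H26.classInner_sub_left, H26.classInner_irr]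
  simp only [eq_comm (a := H26.oneIrr G)]

theorem classInner_reg_notMem (h : Ctx P m) (hM : Cfsg.IsPModular p M) {χ : Cfsg.IrrCharacter G}
    (hχ : χ ∉ Cfsg.principalBlock M G) : Cfsg.classInner (reg p) χ.1 = 0 := by
  haveI := hM.2.1
  rw [classInner_reg_eq h, h.classInner_lift_notMem hM punct_inv (by simp [punct]) hχ, if_neg,
    sub_zero]
  rintro rfl
  exact hχ (H41.mem_blockOf_self (H26.oneIrr G))

theorem classInner_reg_mem (h : Ctx P m) (hM : Cfsg.IsPModular p M) {χ : Cfsg.IrrCharacter G}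
    (hχ : χ ∈ Cfsg.principalBlock M G) :
    Cfsg.classInner (reg p) χ.1 = (if χ = H26.oneIrr G then 1 else 0) -
      ((m : ℂ) * Nat.card P)⁻¹ *
        ∑ y ∈ Finset.univ.erase (1 : ↥(P : Subgroup G)), conj (χ.1 (y : G)) := by
  rw [classInner_reg_eq h, h.classInner_lift punct_inv (res_inv χ) (by simp [punct])
    fun g hg => h.block_eq_lift hM hχ hg]
  congr 2
  rw [← Finset.filter_ne' Finset.univ (1 : ↥(P : Subgroup G)), Finset.sum_filter]
  refine Finset.sum_congr rfl fun y _ => ?_
  by_cases hy : y = 1 <;> simp [punct, hy, res]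

/-- The block sum for products of the classes of `u` and `v` in the regular elements. -/
noncomputable def T (M : Ideal Cfsg.AlgInt) (p : ℕ) (u v : G) : ℂ :=
  ∑ χ ∈ Finset.univ.filter (· ∈ Cfsg.principalBlock M G),
    Cfsg.classInner (reg p) χ.1 * (χ.1 u * χ.1 v / χ.1 1)

theorem sum_pair_reg (h : Ctx P m) (hM : Cfsg.IsPModular p M) (u v : G) :
    ∑ x ∈ Finset.univ.filter (IsConj u), ∑ y ∈ Finset.univ.filter (IsConj v), reg p (x * y) =
      ((Finset.univ.filter (IsConj u)).card : ℂ) * (Finset.univ.filter (IsConj v)).card *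
        T M p u v := by
  rw [sum_class_pair (reg p) reg_classFun, T, ← Finset.sum_filter_add_sum_filter_not Finset.univ
    (· ∈ Cfsg.principalBlock M G)]
  congr 1
  rw [Finset.sum_eq_zero (s := Finset.univ.filter fun χ => ¬ χ ∈ Cfsg.principalBlock M G)
    fun χ hχ => by rw [classInner_reg_notMem h hM (Finset.mem_filter.1 hχ).2, zero_mul], add_zero]

theorem card_class_ne_zero (u : G) : ((Finset.univ.filter (IsConj u)).card : ℂ) ≠ 0 :=
  Nat.cast_ne_zero.2 (Finset.card_ne_zero.2 ⟨u, Finset.mem_filter.2 ⟨Finset.mem_univ _, IsConj.refl u⟩⟩)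

section

variable (hP : IsCyclic (P : Subgroup G))
  (hpair : ∀ a b : G, orderOf a = p → orderOf b = p →
    Cfsg.IsPSolvable p (Subgroup.closure ({a, b} : Set G)))

include hP hpair

/-- No regular products between the classes of `x` and of a non-conjugate of `x⁻¹`. -/
theorem T_eq_zero (h : Ctx P m) (hM : Cfsg.IsPModular p M) {x v : G} (hx : orderOf x = p)
    (hv : orderOf v = p) (hxv : ¬ IsConj x⁻¹ v) : T M p x v = 0 := by
  have h1 := sum_pair_reg h hM x v
  rw [Finset.sum_eq_zero fun a ha => Finset.sum_eq_zero fun b hb => ?_, eq_comm] at h1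
  · exact (mul_eq_zero.1 h1).resolve_left (mul_ne_zero (card_class_ne_zero _) (card_class_ne_zero _))
  · rw [reg, if_pos]
    by_contra hreg
    have ha' := (Finset.mem_filter.1 ha).2
    have hb' := (Finset.mem_filter.1 hb).2
    have := isConj_inv_of_regular P hP ((orderOf_of_isConj ha').trans hx)
      ((orderOf_of_isConj hb').trans hv) (hpair _ _ ((orderOf_of_isConj ha').trans hx)
      ((orderOf_of_isConj hb').trans hv)) hreg
    obtain ⟨c, hc⟩ := isConj_iff.1 ha'
    refine hxv ((isConj_iff.2 ⟨c, ?_⟩ : IsConj x⁻¹ a⁻¹).trans (this.trans hb'.symm))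
    rw [← hc]; group

omit hP hpair in
/-- Taking powers is a bijection between classes of elements of order `p`. -/
theorem exists_pow_inverse {x : G} (hx : orderOf x = p) {i : ℕ} (hi : i ∈ Finset.Ico 1 p) :
    ∃ j : ℕ, ∀ a : G, orderOf a = p → (a ^ i) ^ j = a ∧ (a ^ j) ^ i = a := by
  have hp : p.Prime := Fact.out
  obtain ⟨hi1, hi2⟩ := Finset.mem_Ico.1 hi
  obtain ⟨j, -, hj⟩ := Nat.exists_mul_mod_eq_one_of_coprime
    (hp.coprime_iff_not_dvd.2 (Nat.not_dvd_of_pos_of_lt hi1 hi2)).symm hp.one_lt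
  refine ⟨j, fun a ha => ?_⟩
  have e : a ^ (i * j) = a := by rw [← pow_mod_orderOf, ha, hj, pow_one]
  exact ⟨by rw [← pow_mul, e], by rw [← pow_mul, mul_comm, e]⟩

/-- The regular products over all powers. -/
theorem sum_T (h : Ctx P m) (hM : Cfsg.IsPModular p M) {x : G} (hx : orderOf x = p) :
    ∑ i ∈ Finset.Ico 1 p, T M p (x ^ i) x⁻¹ = 1 := by
  set A := Finset.univ.filter (IsConj x) with hA
  set B := Finset.univ.filter (IsConj x⁻¹) with hB
  have key : ∀ i ∈ Finset.Ico 1 p, ∑ a ∈ A, ∑ b ∈ B, reg p (a ^ i * b) =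
      (A.card : ℂ) * B.card * T M p (x ^ i) x⁻¹ := by
    intro i hi
    obtain ⟨j, hj⟩ := exists_pow_inverse hx hi
    have hmem : ∀ a, a ∈ A ↔ IsConj x a := fun a => by simp [hA]
    have hb : ∀ c : G, IsConj (x ^ i) c → IsConj x (c ^ j) := fun c hc => by
      obtain ⟨d, rfl⟩ := isConj_iff.1 hc
      exact isConj_iff.2 ⟨d, by rw [conj_pow, (hj x hx).1]⟩
    have hcard : A.card = (Finset.univ.filter (IsConj (x ^ i))).card := by
      refine Finset.card_nbij' (· ^ i) (· ^ j) (fun a ha => ?_) (fun c hc => ?_) (fun a ha => ?_)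
        (fun c hc => ?_)
      · rw [Finset.mem_coe, hmem] at ha
        obtain ⟨d, rfl⟩ := isConj_iff.1 ha
        simp only [Finset.coe_filter, Finset.mem_univ, true_and, Set.mem_setOf_eq]
        exact isConj_iff.2 ⟨d, by rw [conj_pow]⟩
      · simp only [Finset.coe_filter, Finset.mem_univ, true_and, Set.mem_setOf_eq] at hc
        rw [Finset.mem_coe, hmem]
        exact hb c hc
      · rw [Finset.mem_coe, hmem] at ha
        exact (hj a ((orderOf_of_isConj ha).trans hx)).1
      · simp only [Finset.coe_filter, Finset.mem_univ, true_and, Set.mem_setOf_eq] at hc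
        obtain ⟨d, rfl⟩ := isConj_iff.1 hc
        show ((d * x ^ i * d⁻¹) ^ j) ^ i = _
        rw [conj_pow, conj_pow, (hj x hx).1]
    rw [hcard, ← sum_pair_reg h hM]
    refine Finset.sum_nbij' (· ^ i) (· ^ j) (fun a ha => ?_) (fun c hc => ?_) (fun a ha => ?_)
      (fun c hc => ?_) (fun a _ => rfl)
    · rw [hmem] at ha
      obtain ⟨d, rfl⟩ := isConj_iff.1 ha
      exact Finset.mem_filter.2 ⟨Finset.mem_univ _, isConj_iff.2 ⟨d, by rw [conj_pow]⟩⟩
    · rw [hmem]
      exact hb c (Finset.mem_filter.1 hc).2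
    · rw [hmem] at ha
      exact (hj a ((orderOf_of_isConj ha).trans hx)).1
    · obtain ⟨d, rfl⟩ := isConj_iff.1 (Finset.mem_filter.1 hc).2
      show ((d * x ^ i * d⁻¹) ^ j) ^ i = _
      rw [conj_pow, conj_pow, (hj x hx).1]
  have hone : ∀ a ∈ A, ∀ b ∈ B, ∑ i ∈ Finset.Ico 1 p, reg p (a ^ i * b) = 1 := by
    intro a ha b hb
    have ha' := (orderOf_of_isConj (Finset.mem_filter.1 ha).2).trans hx
    have hb' := (orderOf_of_isConj (Finset.mem_filter.1 hb).2).trans ((orderOf_inv x).trans hx)
    have hc := card_regular_pow P hP ha' hb' (hpair _ _ ha' hb')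
    simp only [reg, Finset.sum_ite, Finset.sum_const_zero, zero_add, Finset.sum_const,
      nsmul_eq_mul, mul_one]
    rw [hc, Nat.cast_one]
  have h1 : (A.card : ℂ) * B.card * ∑ i ∈ Finset.Ico 1 p, T M p (x ^ i) x⁻¹ =
      (A.card : ℂ) * B.card * 1 := by
    rw [Finset.mul_sum, ← Finset.sum_congr rfl key, Finset.sum_comm,
      Finset.sum_congr rfl fun a ha => Finset.sum_comm.trans (Finset.sum_congr rfl (hone a ha))]
    simp
  exact mul_left_cancel₀ (mul_ne_zero (card_class_ne_zero _) (card_class_ne_zero _)) h1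

/-- Products of two conjugates of `x` avoid the section of an element of order `p²`. -/
theorem sum_sq_section (h : Ctx P m) (hM : Cfsg.IsPModular p M) {x : G} (hx : orderOf x = p)
    {u : ↥(P : Subgroup G)} (hu : orderOf (u : G) = p ^ 2) :
    ∑ χ ∈ Finset.univ.filter (· ∈ Cfsg.principalBlock M G),
      χ.1 x * χ.1 x * conj (χ.1 (u : G)) / χ.1 1 = 0 := by
  set S := section' p (u : G) with hS
  have hu1 : u ≠ 1 := fun e => by
    rw [e, OneMemClass.coe_one, orderOf_one] at hu
    exact (Nat.one_lt_pow two_ne_zero (Fact.out : p.Prime).one_lt).ne hu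
  set f : G → ℂ := fun g => if g ∈ S then 1 else 0 with hfdef
  have hfc : Cfsg.IsClassFunction G f := by
    intro g c
    have : c * g * c⁻¹ ∈ S ↔ g ∈ S := by
      simp only [hS, mem_section']
      constructor
      · rintro ⟨z, hz, hzu⟩
        refine ⟨_, by simpa [mul_assoc] using H40.isPPart_conj c⁻¹ hz, ?_⟩
        exact (isConj_iff.2 ⟨c, by group⟩ : IsConj (c⁻¹ * (z * c)) z).trans hzu
      · rintro ⟨z, hz, hzu⟩
        exact ⟨_, H40.isPPart_conj c hz, (isConj_iff.2 ⟨c, rfl⟩ : IsConj z _).symm.trans hzu⟩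
    simp only [hfdef, this]
  have h1 := sum_class_pair f hfc x x
  rw [Finset.sum_eq_zero fun a ha => Finset.sum_eq_zero fun b hb => ?_, eq_comm] at h1
  · have h2 := (mul_eq_zero.1 h1).resolve_left
      (mul_ne_zero (card_class_ne_zero x) (card_class_ne_zero x))
    have hin : ∀ χ : Cfsg.IrrCharacter G, Cfsg.classInner f χ.1 =
        (Nat.card G : ℂ)⁻¹ * conj (∑ g ∈ S, χ.1 g) := by
      intro χ
      rw [Cfsg.classInner, map_sum]
      congr 1
      simp only [hfdef, ite_mul, one_mul, zero_mul]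
      rw [← Finset.sum_filter, Finset.filter_univ_mem]
    rw [← Finset.sum_filter_add_sum_filter_not Finset.univ (· ∈ Cfsg.principalBlock M G),
      Finset.sum_eq_zero (s := Finset.univ.filter fun χ => ¬ χ ∈ Cfsg.principalBlock M G)
        fun χ hχ => by
          rw [hin, h.sum_section_eq_zero hM (Finset.mem_filter.1 hχ).2 hu1, map_zero, mul_zero,
            zero_mul], add_zero] at h2
    have hval : ∀ χ ∈ Finset.univ.filter (· ∈ Cfsg.principalBlock M G),
        Cfsg.classInner f χ.1 * (χ.1 x * χ.1 x / χ.1 1) = ((Nat.card G : ℂ)⁻¹ * S.card) *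
          (χ.1 x * χ.1 x * conj (χ.1 (u : G)) / χ.1 1) := by
      intro χ hχ
      rw [hin, Finset.sum_congr rfl fun g hg => (by
        obtain ⟨z, hz, hzu⟩ := mem_section'.1 hg
        exact h.block_value hM (Finset.mem_filter.1 hχ).2 hu1 hz hzu :
          χ.1 g = χ.1 (u : G)), Finset.sum_const, nsmul_eq_mul, map_mul, Complex.conj_natCast]
      ring
    rw [Finset.sum_congr rfl hval, ← Finset.mul_sum] at h2
    refine (mul_eq_zero.1 h2).resolve_left (mul_ne_zero
      (inv_ne_zero (Nat.cast_ne_zero.2 Nat.card_pos.ne')) (Nat.cast_ne_zero.2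
        (Finset.card_ne_zero.2 ⟨(u : G), mem_section'.2 ⟨_, isPPart_self u, IsConj.refl _⟩⟩)))
  · simp only [hfdef]
    rw [if_neg]
    intro hab
    obtain ⟨z, hz, hzu⟩ := mem_section'.1 hab
    have ha' := (orderOf_of_isConj (Finset.mem_filter.1 ha).2).trans hx
    have hb' := (orderOf_of_isConj (Finset.mem_filter.1 hb).2).trans hx
    refine not_sq_dvd P hP ha' hb' (hpair _ _ ha' hb') ?_
    obtain ⟨y', hy', hcy, ⟨j, hj⟩, hyr⟩ := hz
    rw [← hy', hcy.orderOf_mul_eq_mul_orderOf_of_coprime, ← orderOf_of_isConj hzu, hu]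
    · exact dvd_mul_right _ _
    · rw [hj]
      exact ((Fact.out : p.Prime).coprime_iff_not_dvd.2 hyr).pow_left j

end

end Cfsg.Agent.H38.CP
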